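import Mathlib
import Cfsg.Agent.Lib.Deg.FewDeg2
import Cfsg.Agent.Lib.Char.ExtDeg
import Cfsg.Agent.Lib.Char.ExtDet
import Cfsg.Agent.Lib.Palfy.N1c

/-! Relative character degrees: permutation characters, normal `p`-subgroups, stabilisers. -/

set_option autoImplicit false
set_option linter.unusedSectionVars false

namespace H64.Garr

open Cfsg H6 H87 Subgroup
open scoped ComplexConjugate commutatorElement

variable {G : Type*} [Group G] [Finite G]

theorem index_sup_mul (U X : Subgroup G) [X.Normal] :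
    (U ⊔ X).index * Nat.card U = X.index * Nat.card (X.subgroupOf U) := by
  rw [← (X.subgroupOf U).index_mul_card, ← relIndex_mul_index (le_sup_right : X ≤ U ⊔ X),
    relIndex_sup_right, relIndex]
  ring

theorem dvd_index_sup {U X : Subgroup G} [hX : X.Normal] {d : ℕ} (hd : d ∣ U.index)
    (h : ∀ β, IsIrrCharacter G β → Over U β (fun _ => 1) → ¬ X ≤ charKer β → d ∣ charDegree β) :
    d ∣ (U ⊔ X).index := by
  classical
  have := Fintype.ofFinite G
  obtain ⟨m, h1, h2, h3⟩ := char_decomp (H7.isCharacter_indFun_one U)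
  rw [deg_indFun _ isCharacter_one, deg_one, mul_one] at h3
  have e1 : classInner (indFun U fun _ => 1) (indFun X fun _ => 1) = ((U ⊔ X).index : ℕ) := by
    rw [H7.classInner_indFun_left _ _ (H7.isClassFunction_indFun _ _), H7.classInner_def,
      inv_mul_eq_iff_eq_mul₀ (H7.card_ne_zero' U), mul_comm, ← Nat.cast_mul, index_sup_mul,
      Nat.card_eq_fintype_card, Fintype.card_subtype, Finset.card_filter]
    push_cast
    rw [Finset.mul_sum]
    refine Finset.sum_congr rfl fun u _ => ?_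
    by_cases hu : (u : G) ∈ X
    · rw [show indFun X (fun _ => 1) u = _ from
        H7.indFun_normal_apply_of_invariant X (fun _ => 1) (fun _ _ => rfl) ⟨u, hu⟩,
        if_pos (mem_subgroupOf.2 hu)]
      simp
    · rw [H7.indFun_eq_zero_of_not_mem_normal X X le_rfl _ hu, if_neg (mt mem_subgroupOf.1 hu)]
      simp
  have e2 : classInner (indFun U fun _ => 1) (indFun X fun _ => 1) =
      ((∑ ψ : IrrCharacter G, if X ≤ charKer (ψ : G → ℂ) then m ψ * charDegree (ψ : G → ℂ) else 0 :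
        ℕ) : ℂ) := by
    rw [show indFun U (fun _ => 1) = ∑ ψ : IrrCharacter G, (m ψ : ℂ) • (ψ : G → ℂ) from
      funext fun g => by rw [h2, Finset.sum_apply]; rfl, H7.classInner_sum_left]
    push_cast
    refine Finset.sum_congr rfl fun ψ _ => ?_
    rw [H7.classInner_smul_left, H7.classInner_indFun_right _ _ (irr_isClassFunction ψ.2)]
    split_ifs with hk
    · rw [show (fun x : X => (ψ : G → ℂ) x) = (ψ : G → ℂ) 1 • fun _ => (1 : ℂ) from
        funext fun x => by simpa using (mem_charKer (irr_isCharacter ψ.2)).1 (hk x.2),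
        H7.classInner_smul_left, H7.classInner_one_one, mul_one, deg_cast']
    · rw [inner_res_one_eq_zero ψ.2 X hk, mul_zero]
  have e3 := Nat.cast_injective (e1.symm.trans e2)
  have e4 : U.index = (U ⊔ X).index + ∑ ψ : IrrCharacter G,
      if X ≤ charKer (ψ : G → ℂ) then 0 else m ψ * charDegree (ψ : G → ℂ) := by
    rw [h3, e3, ← Finset.sum_add_distrib]
    exact Finset.sum_congr rfl fun ψ _ => by split_ifs <;> simp
  refine (Nat.dvd_add_left (Finset.dvd_sum fun ψ _ => ?_)).1 (e4 ▸ hd)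
  split_ifs with hk
  · exact dvd_zero _
  by_cases hm : m ψ = 0
  · simp [hm]
  · exact (h ψ ψ.2 (over_of_inner_indFun (irr_isClassFunction ψ.2) (by
      rw [h1]; exact_mod_cast hm)) hk).mul_left _

theorem le_of_dvd {U X T : Subgroup G} [X.Normal] (hU : U ≤ T) (hX : X ≤ T)
    (hc : (U.relIndex T).Coprime T.index)
    (h : ∀ β, IsIrrCharacter G β → Over U β (fun _ => 1) → ¬ X ≤ charKer β →
      U.relIndex T ∣ charDegree β) : X ≤ U := by
  have h1 := dvd_index_sup (Dvd.intro _ (relIndex_mul_index hU)) h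
  rw [← relIndex_mul_index (sup_le hU hX)] at h1
  have h2 := hc.dvd_of_dvd_mul_right h1
  rw [← relIndex_mul_relIndex U (U ⊔ X) T le_sup_left (sup_le hU hX)] at h2
  have h3 : (U ⊔ X).relIndex T ≠ 0 := index_ne_zero_of_finite
  exact le_sup_right.trans (relIndex_eq_one.1 (Nat.eq_one_of_dvd_one
    (Nat.dvd_of_mul_dvd_mul_right (Nat.pos_of_ne_zero h3) (by rwa [one_mul]))))

/-- the stabiliser of a character contains `X` if its index divides the degrees over `X / F` -/
theorem le_of_index_dvd {U X F : Subgroup G} [X.Normal] [F.Normal] (hF : F ≤ U)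
    (h : ∀ β, IsIrrCharacter G β → F ≤ charKer β → ¬ X ≤ charKer β → U.index ∣ charDegree β) :
    X ≤ U :=
  le_of_dvd (T := ⊤) le_top le_top (by simp) fun β hβ ho hk => by
    rw [relIndex_top_right]
    exact h β hβ (ho.le_charKer hβ isCharacter_one F hF fun _ _ => rfl) hk

theorem apply_eq_of_deg_one {K : Type*} [Group K] [Finite K] {θ : K → ℂ} (hθ : IsIrrCharacter K θ)
    (h1 : charDegree θ = 1) {f : K →* G} (hf : Function.Injective f) {X : Subgroup G}
    (hX : X ≤ f.range) {x : K} (hx : f x ∈ ⁅X, X⁆) : θ x = θ 1 := by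
  have := commutator_mono hX hX hx
  rw [MonoidHom.range_eq_map, ← map_commutator] at this
  obtain ⟨y, hy, e⟩ := this
  exact (mem_charKer (irr_isCharacter hθ)).1
    (commutator_le_charKer_of_deg_one (irr_isCharacter hθ) h1 (hf e ▸ hy))

/-- the `p`-parts of the degrees increase along the derived series of a normal `p`-subgroup -/
theorem t1 {p : ℕ} [hp : Fact p.Prime] {X : Subgroup G} [X.Normal] (hX : IsPGroup p X) {χ : G → ℂ}
    (hχ : IsIrrCharacter G χ) (hk : ¬ ⁅X, X⁆ ≤ charKer χ) : ∃ β, IsIrrCharacter G β ∧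
      ¬ X ≤ charKer β ∧ (charDegree β).factorization p < (charDegree χ).factorization p := by
  by_contra hn
  push Not at hn
  obtain ⟨P, hP⟩ := hX.exists_le_sylow
  have := Fintype.ofFinite (P : Subgroup G)
  obtain ⟨θ, hθ, ho, hd⟩ := exists_constituent_not_dvd
    (isCharacter_restrict (P : Subgroup G) (irr_isCharacter hχ))
    (d := p ^ ((charDegree χ).factorization p + 1))
    (by rw [deg_res]; exact Nat.pow_succ_factorization_not_dvd (deg_ne_zero hχ) hp.out)
  obtain ⟨j, hj⟩ := deg_pow_of_isPGroup P.2 hθ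
  obtain ⟨H, lam, h1, h2, h3, h4⟩ := isM_of_isPGroup hp.out P.2 θ hθ
  obtain ⟨i, hi⟩ := P.2.index H
  have hr : (H.map (P : Subgroup G).subtype).relIndex P = p ^ i := by
    rw [relIndex, subgroupOf, comap_map_eq_self_of_injective (subtype_injective _), hi]
  have hij : i ≤ (charDegree χ).factorization p := by
    rw [hi, hj, Nat.pow_le_pow_iff_right hp.out.one_lt] at h4
    rw [hj, Nat.pow_dvd_pow_iff_le_right hp.out.one_lt] at hd
    omega
  have hle : X ≤ H.map (P : Subgroup G).subtype := le_of_dvd (map_subtype_le _) hP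
    (hr ▸ ((Nat.Prime.coprime_iff_not_dvd hp.out).2 P.not_dvd_index).pow_left i)
    fun β hβ _ h5 => hr ▸ (hp.out.pow_dvd_iff_le_factorization (deg_ne_zero hβ)).2
      (hij.trans (hn β hβ h5))
  have hc := (commutator_le_left X X).trans hle
  refine hk ((over_iff.2 ho).le_charKer hχ (irr_isCharacter hθ) _ (hc.trans (map_subtype_le _))
    fun x hx => (mem_charKer (irr_isCharacter hθ)).1 (h3.le_charKer hθ (irr_isCharacter h1)
      (⁅X, X⁆.subgroupOf P) (fun y hy => ?_) (fun y hy => ?_) hx))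
  · obtain ⟨z, hz, e⟩ := hc hy
    exact (Subtype.ext e : z = y) ▸ hz
  · exact apply_eq_of_deg_one h1 h2 (f := (P : Subgroup G).subtype.comp H.subtype)
      ((subtype_injective _).comp (subtype_injective _))
      (by rwa [MonoidHom.range_comp, range_subtype]) hy

theorem dvd_of_not_le {p : ℕ} [hp : Fact p.Prime] {X : Subgroup G} [X.Normal] (hX : IsPGroup p X)
    {χ : G → ℂ} (hχ : IsIrrCharacter G χ) (hk : ¬ ⁅X, X⁆ ≤ charKer χ) : p ∣ charDegree χ := by
  obtain ⟨β, -, -, h⟩ := t1 hX hχ hk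
  exact Nat.dvd_of_factorization_pos (by omega)

/-- one degree above a normal `p`-subgroup -/
theorem comm_of_one {p : ℕ} [hp : Fact p.Prime] {X : Subgroup G} [X.Normal] (hX : IsPGroup p X)
    {d : ℕ} (h : ∀ χ, IsIrrCharacter G χ → ¬ X ≤ charKer χ → charDegree χ = d) : ⁅X, X⁆ = ⊥ :=
  eq_bot_of_forall_le_charKer fun χ hχ => not_not.1 fun hk => by
    obtain ⟨β, h1, h2, h3⟩ := t1 hX hχ hk
    rw [h β h1 h2, h χ hχ fun e => hk ((commutator_le_left X X).trans e)] at h3
    exact lt_irrefl _ h3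

theorem thompson {p : ℕ} [hp : Fact p.Prime] (hO : pPrimeCore p G = ⊥)
    (h : ∀ χ, IsIrrCharacter G χ → charDegree χ ≠ 1 → p ∣ charDegree χ) : IsPGroup p G := by
  obtain ⟨M, hM, h1, k, hk⟩ := exists_complement_of_dvd_deg hp.out h
  obtain rfl : M = ⊥ := le_bot_iff.1 (hO ▸ H1.le_pPrimeCore h1)
  exact IsPGroup.of_card (index_bot.symm.trans hk)

theorem pPrimeCore_normal {p : ℕ} (hO : pPrimeCore p G = ⊥) (N : Subgroup G) [N.Normal] :
    pPrimeCore p N = ⊥ :=
  (map_eq_bot_iff_of_injective _ N.subtype_injective).1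
    (le_bot_iff.1 (hO ▸ H1.map_subtype_pPrimeCore_le N))

/-- the stabiliser of a linear character with one `p'`-degree above it -/
theorem stab {p : ℕ} [hp : Fact p.Prime] {L : Subgroup G} [L.Normal] (hL : IsPGroup p L)
    (lam : L →* ℂˣ) {d : ℕ} (hd : ¬ p ∣ d)
    (h : ∀ χ, IsIrrCharacter G χ → Over L χ (fun n => (lam n : ℂ)) → charDegree χ = d) :
    ¬ p ∣ (H7.inertia fun n => (lam n : ℂ)).index ∧ ∀ a ∈ H7.inertia fun n => (lam n : ℂ),
      ∀ b ∈ H7.inertia fun n => (lam n : ℂ), ⁅a, b⁆ ∈ L := by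
  have hl := isIrrCharacter_hom lam
  set T := H7.inertia fun n => (lam n : ℂ)
  have hLT : L ≤ T := H7.le_inertia (irr_isClassFunction hl)
  obtain ⟨χ, hχ, ho⟩ := exists_over hl
  obtain ⟨ψ, hψ, -, h1, h2⟩ := ho.exists_corr hLT hl le_rfl hχ
  rw [h χ hχ ho] at h2
  refine ⟨fun e => hd (h2 ▸ e.mul_right _), ?_⟩
  let μ : L.subgroupOf T →* ℂˣ := lam.comp (subgroupOfEquivOfLe hLT).toMonoidHom
  have hμ := isIrrCharacter_hom μ
  have h3 : Over (L.subgroupOf T) ψ fun n => (μ n : ℂ) := by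
    rwa [Over, ← finsum_comp_equiv (subgroupOfEquivOfLe hLT).toEquiv.symm]
  obtain ⟨e, -, h4, h5⟩ := h3.res_eq_of_invariant hψ hμ (eq_top_iff.2 fun g _ =>
    H7.mem_inertia'.2 fun n => H7.mem_inertia'.1 g.2 ⟨(n : T), n.2⟩)
  rw [deg_hom, mul_one] at h4
  obtain ⟨k, hk⟩ := IsPGroup.iff_card.1 hL
  obtain ⟨F, hF⟩ := H31.ExtPow.of_coprime (f := μ) (a := e) (b := p ^ k)
    ⟨H31.detHom ψ, fun n => by
      rw [H31.detHom_of_ext _ (irr_isCharacter hψ) (ϑ := (e : ℂ) • fun n => (μ n : ℂ)) h5,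
        H31.detHom_nsmul (irr_isCharacter hμ), H31.detHom_hom]⟩
    (H31.extPow_of_pow_eq_one fun n => by
      rw [← hk, MonoidHom.comp_apply, ← map_pow, pow_card_eq_one', map_one])
    (((Nat.Prime.coprime_iff_not_dvd hp.out).2 fun e' => hd (h2 ▸ (h4 ▸ e').mul_left _)).symm.pow_right k)
  have key : ∀ β, IsIrrCharacter T β → L.subgroupOf T ≤ charKer β → T.index * charDegree β = d :=
    fun β hβ hk => by
      obtain ⟨η, h6, h7, h8⟩ := exists_over_of_ext hLT hl le_rfl (isIrrCharacter_hom F)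
        (fun n => congrArg Units.val (hF ⟨⟨n, hLT n.2⟩, n.2⟩)) hβ hk
      rw [← h η h6 h7, h8, deg_hom, mul_one]
  have h9 := key _ isIrrCharacter_one 
    (le_top.trans ((charKer_eq_top_iff (G := T) isIrrCharacter_one).2 rfl).ge)
  exact fun a ha b hb => commutator_le_of_forall_deg (L := L.subgroupOf T) (fun β hβ hk =>
    Nat.eq_of_mul_eq_mul_left (Nat.pos_of_ne_zero index_ne_zero_of_finite)
      ((key β hβ hk).trans (h9.symm.trans (by rw [deg_one]))))
    (commutator_mem_commutator (mem_top (⟨a, ha⟩ : T)) (mem_top ⟨b, hb⟩))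

end H64.Garr
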