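import Mathlib
import Cfsg.Agent.Lib.Garr.A
import Cfsg.Agent.Lib.Deg.Frob
import Cfsg.Agent.Lib.BG4.Rank1

/-! A group of derived length three cannot act with small stabilisers. -/

set_option autoImplicit false
set_option linter.unusedSectionVars false

namespace H64.Garr

open Cfsg H6 H87 Subgroup H64.Palfy
open scoped ComplexConjugate commutatorElement

variable {H : Type*} [Group H] [Finite H]

theorem mem_zp_of_cyclic [IsCyclic H] {c x : H} {q : ℕ} (hq : 0 < q) (hc : orderOf c = q)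
    (hx : x ^ q = 1) : x ∈ zpowers c := by
  classical
  have := Fintype.ofFinite H
  have h1 := IsCyclic.card_pow_eq_one_le (α := H) hq
  have h2 : Finset.univ.filter (· ∈ zpowers c) = Finset.univ.filter fun a : H => a ^ q = 1 :=
    Finset.eq_of_subset_of_card_le (fun a ha => by
      obtain ⟨k, rfl⟩ := (Finset.mem_filter.1 ha).2
      refine Finset.mem_filter.2 ⟨Finset.mem_univ _, ?_⟩
      rw [← zpow_natCast, ← zpow_mul, mul_comm, zpow_mul, zpow_natCast, ← hc, pow_orderOf_eq_one,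
        one_zpow]) (h1.trans (by
      rw [← Fintype.card_subtype, ← Nat.card_eq_fintype_card, Nat.card_zpowers, hc]))
  exact (Finset.mem_filter.1 (h2.ge (Finset.mem_filter.2 ⟨Finset.mem_univ _, hx⟩))).2

theorem comm_of_cyc [Group.IsNilpotent H] (ho : Odd (Nat.card (commutator H)))
    (hc : ∀ B : Subgroup H, (∀ a ∈ B, ∀ b ∈ B, a * b = b * a) → IsCyclic B) (a b : H) :
    a * b = b * a := by
  have key : ∀ q : Nat.Primes, ∀ a ∈ pCore (q : ℕ) H, ∀ b ∈ pCore (q : ℕ) H, a * b = b * a := by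
    rintro ⟨q, hq⟩ a ha b hb
    have := Fact.mk hq
    have hP := H1.isPGroup_pCore (p := q) (G := H)
    by_cases h2 : q = 2
    · subst h2
      obtain ⟨k, hk⟩ := hP ⟨⁅a, b⁆, commutator_le_left _ _ (commutator_mem_commutator ha hb)⟩
      refine commutatorElement_eq_one_iff_mul_comm.1 (orderOf_eq_one_iff.1 (Nat.eq_one_of_dvd_coprimes
        ((Nat.coprime_two_left.2 ho).pow_left k) (orderOf_dvd_of_pow_eq_one (congrArg Subtype.val hk))
        (orderOf_dvd_natCard _ (commutator_mem_commutator (mem_top a) (mem_top b)))))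
    by_cases hne : pCore q H = ⊥
    · rw [show a = 1 from mem_bot.1 (hne ▸ ha), one_mul, mul_one]
    have := (nontrivial_iff_ne_bot _).2 hne
    have hZ := hP.center_nontrivial
    obtain ⟨n, hn, h3⟩ := (hP.to_subgroup (center _)).nontrivial_iff_card.1 hZ
    obtain ⟨c, h4⟩ := exists_prime_orderOf_dvd_card' (G := center (pCore q H)) q
      (by rw [h3]; exact dvd_pow_self q hn.ne')
    have h5 : IsCyclic (pCore q H) := H48.isCyclic_of_forall_pow_eq_one_mem h2 hP
      (C := zpowers ((c : pCore q H) : H)) inferInstance fun x hx hxq => by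
        have := hc (zpowers ((c : pCore q H) : H) ⊔ zpowers x) (comm_of_mem_sup
          (comm_of_mem_zpowers _) (comm_of_mem_zpowers _) (by
            rintro _ ⟨i, rfl⟩ _ ⟨j, rfl⟩
            exact (Commute.zpow_zpow
              (congrArg Subtype.val (mem_center_iff.1 c.2 ⟨x, hx⟩)).symm i j).eq))
        obtain ⟨k, hk⟩ := mem_zp_of_cyclic (H := ↥(zpowers ((c : pCore q H) : H) ⊔ zpowers x))
          (c := ⟨_, mem_sup_left (mem_zpowers _)⟩) (x := ⟨x, mem_sup_right (mem_zpowers _)⟩) hq.pos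
          (by rw [orderOf_mk, orderOf_coe, orderOf_coe, h4]) (Subtype.ext hxq)
        exact ⟨k, congrArg Subtype.val hk⟩
    exact congrArg Subtype.val (h5.isMulCommutative.is_comm.comm (⟨a, ha⟩ : pCore q H) ⟨b, hb⟩)
  have top := H1.iSup_pCore_eq_top_iff.2 (inferInstance : Group.IsNilpotent H)
  have h1 : ∀ q : Nat.Primes, pCore (q : ℕ) H ≤ centralizer (⊤ : Subgroup H) := fun q => by
    rw [le_centralizer_iff, ← top]
    refine iSup_le fun r => ?_
    by_cases e : r = q
    · exact fun x hx y hy => key q y hy x (e ▸ hx)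
    · have := Fact.mk q.2
      have := Fact.mk r.2
      exact H1.pCore_le_centralizer_pCore fun e' => e (Subtype.ext e')
  exact (top.ge.trans (iSup_le h1)) (mem_top b) a (mem_top a)

theorem not_dvd_of_nilp {p : ℕ} [hp : Fact p.Prime] (hO : pCore p H = ⊥) {X : Subgroup H} [X.Normal]
    (h : Group.IsNilpotent X) : ¬ p ∣ Nat.card X := fun hd => by
  obtain ⟨x, hx⟩ := exists_prime_orderOf_dvd_card' p hd
  have h1 : orderOf (x : H) = p := by rw [orderOf_coe, hx]
  have := H1.le_pCore_of_le_fitting (p := p) (P := zpowers (x : H))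
    (IsPGroup.of_card (n := 1) (by rw [Nat.card_zpowers, h1, pow_one]))
    ((zpowers_le.2 x.2).trans (H1.le_fitting h)) (mem_zpowers _)
  rw [hO, mem_bot] at this
  rw [this, orderOf_one] at h1
  exact hp.out.one_lt.ne h1

theorem exists_hom_ne {B : Subgroup H} {x : B} (hx : (x : H) ∉ ⁅B, B⁆) : ∃ ν : B →* ℂˣ, ν x ≠ 1 := by
  obtain ⟨ν, -, h⟩ := exists_hom_trivial_ne_one (commutator B) le_rfl (g := x) fun e =>
    hx (map_subtype_commutator B ▸ mem_map_of_mem _ e)
  exact ⟨ν, h⟩

/-- averaging a linear character over a `p`-group -/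
theorem exists_inv_hom {p : ℕ} [hp : Fact p.Prime] {X P : Subgroup H} [X.Normal] (hP : IsPGroup p P)
    {x : X} (hx : (x : H) ∉ ⁅X, X⁆) (ho : ¬ p ∣ orderOf (x : H))
    (hc : ∀ y ∈ P, (x : H) * y = y * x) :
    ∃ μ : X →* ℂˣ, μ x ≠ 1 ∧ P ≤ H7.inertia fun n => (μ n : ℂ) := by
  obtain ⟨ν, hν⟩ := exists_hom_ne hx
  have := Fintype.ofFinite P
  refine ⟨H2.normHom ((dual X).comp P.subtype) ν, fun e => hν ?_, fun y hy => ?_⟩
  · rw [H2.normHom_apply, MonoidHom.finset_prod_apply, Finset.prod_congr rfl (g := fun _ => ν x)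
      fun a _ => by
        rw [MonoidHom.comp_apply, dualA_apply]
        refine congrArg ν (Subtype.ext ?_)
        change (a : H)⁻¹ * x * (a : H)⁻¹⁻¹ = x
        rw [inv_inv, mul_assoc, hc a a.2, inv_mul_cancel_left], Finset.prod_const, Finset.card_univ,
      ← Nat.card_eq_fintype_card] at e
    obtain ⟨k, hk⟩ := IsPGroup.iff_card.1 hP
    exact orderOf_eq_one_iff.1 (Nat.eq_one_of_dvd_coprimes
      (((Nat.Prime.coprime_iff_not_dvd hp.out).2 ho).pow_left k) (hk ▸ orderOf_dvd_of_pow_eq_one e)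
      (orderOf_coe x ▸ orderOf_map_dvd ν x))
  · rw [← st_dual]
    exact H2.apply_normHom ((dual X).comp P.subtype) ⟨y, hy⟩ ν

theorem mem_comm_of_cent {p : ℕ} [hp : Fact p.Prime] {X : Subgroup H} [X.Normal]
    (hX : ¬ p ∣ Nat.card X) (h : ∀ β, IsIrrCharacter H β → ¬ X ≤ charKer β → p ∣ charDegree β)
    (P : Sylow p H) {x : H} (hx : x ∈ X) (hc : ∀ y ∈ (P : Subgroup H), x * y = y * x) :
    x ∈ ⁅X, X⁆ := by
  by_contra hn
  have := Fintype.ofFinite H
  obtain ⟨μ, h1, h2⟩ := exists_inv_hom P.2 (x := ⟨x, hx⟩) hn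
    (fun e => hX (e.trans (orderOf_dvd_natCard X hx))) hc
  have hμ := isIrrCharacter_hom μ
  obtain ⟨k, hk⟩ := P.2.index (X.subgroupOf P)
  obtain ⟨ψ, hψ, he⟩ := H31.extends_le_of_coprime (T := X ⊔ P) le_sup_left hμ
    (sup_le (H7.le_inertia (irr_isClassFunction hμ)) h2) (by
      rw [relIndex_sup_left, relIndex, hk]
      exact ((Nat.Prime.coprime_iff_not_dvd hp.out).2 hX).pow_left k)
  obtain ⟨β, hβ, h3, h4⟩ := exists_constituent_not_dvd
    (H7.isCharacter_indFun _ (irr_isCharacter hψ)) (d := p) (by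
      rw [deg_indFun _ (irr_isCharacter hψ), (deg_eq_one_iff (irr_isCharacter hψ)).2
        ((he 1).trans (by simp)), mul_one]
      exact not_dvd_index_of_le P le_sup_right)
  have h5 := (over_of_inner_indFun (irr_isClassFunction hβ) h3).trans le_sup_left
    (finsum_ne_zero_of_eq_mul hμ one_ne_zero fun n => (he n).trans (one_mul _).symm)
    (irr_isCharacter hβ) hψ (irr_isCharacter hμ)
  refine h4 (h β hβ fun hk => h1 (Units.val_injective ?_))
  simpa using h5.apply_eq_of_mem_ker (irr_isCharacter hβ) hμ (x := ⟨x, hx⟩)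
    ((mem_charKer (irr_isCharacter hβ)).1 (hk hx))

theorem lemE {W : Type*} [Group W] [Finite W] [Nontrivial W] (φ : H →* MulAut W) {p : ℕ}
    [hp : Fact p.Prime] (hW : IsPGroup p W) (hO : pCore p H = ⊥) (N : Subgroup H) [N.Normal]
    (hN : commutator H ≤ N) (h3 : derivedSeries H 3 = ⊥) (h2 : derivedSeries H 2 ≠ ⊥)
    (hs : ∀ w, w ≠ 1 → ∃ P : Sylow p H, ∀ a ∈ commutator H, φ a w = w →
      ∀ y ∈ (P : Subgroup H), a * y = y * a)
    (hd : ∀ β, IsIrrCharacter H β → ¬ ⁅N, N⁆ ≤ charKer β → p ∣ charDegree β)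
    (hf : ∀ β, IsIrrCharacter H β → ⁅N, N⁆ ≤ charKer β →
      charDegree β = 1 ∨ charDegree β = N.index) : False := by
  set D := commutator H with hD
  set A := ⁅D, D⁆ with hA
  set B := ⁅N, N⁆ with hB
  have h3' : ⁅A, A⁆ = ⊥ := h3
  have hAB : A ≤ B := commutator_mono hN hN
  have hBD : B ≤ D := commutator_mono le_top le_top
  let Fr : Subgroup H → Prop := fun X => ∀ x ∈ X, ∀ P : Sylow p H,
    (∀ y ∈ (P : Subgroup H), x * y = y * x) → x = 1
  have cyc : ∀ X, X ≤ D → Fr X → ¬ p ∣ Nat.card X → (∀ a ∈ X, ∀ b ∈ X, a * b = b * a) →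
      IsCyclic X := fun X h1 h4 h5 h6 => by
    obtain ⟨k, hk⟩ := IsPGroup.iff_card.1 hW
    obtain ⟨A0, h7, a, -, h8, w, hw, h9⟩ := exists_cocyc (φ := φ) (A := X)
      ⟨⟨fun a b => Subtype.ext (h6 a a.2 b b.2)⟩⟩
      (hk ▸ ((Nat.Prime.coprime_iff_not_dvd hp.out).2 h5).symm.pow_right k)
    obtain ⟨P, hP⟩ := hs w hw
    obtain rfl : A0 = ⊥ := eq_bot_iff.2 fun x hx => h4 x (h7 hx) P (hP x (h1 (h7 hx)) (h9 hx))
    rw [← h8, bot_sup_eq]; infer_instance
  have hAc : ∀ a ∈ A, ∀ b ∈ A, a * b = b * a := fun a ha b hb =>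
    commutatorElement_eq_one_iff_mul_comm.1 (mem_bot.1 (h3' ▸ commutator_mem_commutator ha hb))
  have pA : ¬ p ∣ Nat.card A := not_dvd_of_nilp hO
    (H1.isNilpotent_of_commutator_le_centralizer (h3'.le.trans bot_le))
  have fA : Fr A := fun x hx P hc => mem_bot.1 (h3' ▸ mem_comm_of_cent pA
    (fun β hβ hk => hd β hβ fun e => hk (hAB.trans e)) P hx hc)
  have := cyc A (hAB.trans hBD) fA pA hAc
  have nD : Group.IsNilpotent D := H1.isNilpotent_of_commutator_le_centralizer
    (le_centralizer_iff.1 (commutator_le_centralizer_of_isCyclic A))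
  have pD := not_dvd_of_nilp hO nD
  obtain ⟨P⟩ : Nonempty (Sylow p H) := inferInstance
  have oA : Odd (Nat.card A) := Nat.not_even_iff_odd.1 fun he => by
    obtain ⟨t, ht⟩ := exists_prime_orderOf_dvd_card' 2 he.two_dvd
    have t1 : t ≠ 1 := fun e => by simp [e] at ht
    refine t1 (Subtype.ext (fA t t.2 P fun y _ => ?_))
    have := invol_unique (x := MulAut.conjNormal y t) (y := t)
      (by rw [← map_pow, ← ht, pow_orderOf_eq_one, map_one]) (ht ▸ pow_orderOf_eq_one t)
      (by simpa using t1) t1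
    exact (mul_inv_eq_iff_eq_mul.1 (congrArg Subtype.val this)).symm
  have ab : ∀ X, X ≤ D → Fr X → ∀ a ∈ X, ∀ b ∈ X, a * b = b * a := fun X h1 h4 a ha b hb => by
    have := H1.isNilpotent_of_le nD h1
    refine congrArg Subtype.val (comm_of_cyc (H := X) (oA.of_dvd_nat ?_) (fun Y hY => ?_)
      ⟨a, ha⟩ ⟨b, hb⟩)
    · rw [← card_map_of_injective X.subtype_injective, map_subtype_commutator]
      exact card_dvd_of_le (commutator_mono h1 h1)
    · have := cyc (Y.map X.subtype) ((map_subtype_le _).trans h1)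
        (fun x hx => h4 x (map_subtype_le _ hx))
        (fun e => pD (e.trans (card_dvd_of_le ((map_subtype_le _).trans h1)))) (by
          rintro _ ⟨a, ha, rfl⟩ _ ⟨b, hb, rfl⟩
          exact congrArg Subtype.val (hY a ha b hb))
      exact isCyclic_of_surjective _ (Y.equivMapOfInjective _ X.subtype_injective).symm.surjective
  have fB : Fr B := fun x hx P hc => fA x (commutator_mono hBD hBD (mem_comm_of_cent
    (fun e => pD (e.trans (card_dvd_of_le hBD))) hd P hx hc)) P hc
  refine h2 (eq_bot_iff.2 (commutator_le.2 fun a ha b hb => mem_bot.2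
    (commutatorElement_eq_one_iff_mul_comm.2 ?_)))
  by_cases hpf : p ∣ N.index
  · refine ab D le_rfl (fun x hx P hc => fB x (not_not.1 fun hn => ?_) P hc) a ha b hb
    have := Fintype.ofFinite H
    obtain ⟨μ, h4, h5⟩ := exists_inv_hom P.2 (x := ⟨x, hN hx⟩) hn
      (fun e => pD (e.trans (orderOf_dvd_natCard D hx))) hc
    have hμ := isIrrCharacter_hom μ
    obtain ⟨β, hβ, ho⟩ := exists_over hμ
    rcases hf β hβ (ho.commutator_le_charKer hβ hμ (deg_hom μ)) with e | e
    · refine h4 (Units.val_injective ?_)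
      simpa using ho.apply_eq_of_mem_ker (irr_isCharacter hβ) hμ (x := ⟨x, hN hx⟩)
        ((mem_charKer (irr_isCharacter hβ)).1
          (commutator_le_charKer_of_deg_one (irr_isCharacter hβ) e hx))
    · obtain ⟨c, h6, h7⟩ := index_dvd_of_vanish hβ (fun g hg => by
        rw [← ho.eq_indFun hβ (irr_isCharacter hμ) (by rw [deg_hom, mul_one, e])]
        exact H7.indFun_eq_zero_of_not_mem_normal N N le_rfl _ hg) hμ ho
      rw [deg_hom, mul_one, e, h7, sq, mul_left_inj' index_ne_zero_of_finite] at h6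
      rcases Nat.eq_zero_or_pos c with rfl | hc0
      · exact index_ne_zero_of_finite (h7.trans (by simp))
      rw [Nat.eq_of_mul_eq_mul_left hc0 (h6.trans (mul_one c).symm), one_pow, one_mul] at h7
      exact not_dvd_index_of_le P h5 (h7 ▸ hpf)
  · have hPN := sylow_le_of_normal hpf P
    have := cyc B hBD fB (fun e => pD (e.trans (card_dvd_of_le hBD))) (ab B hBD fB)
    obtain ⟨k, hk⟩ := IsPGroup.iff_card.1 P.2
    have h4 := H2.commutator_sup_centralizer (A := P) (K := D) le_normalizer_of_normal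
      (hk ▸ ((Nat.Prime.coprime_iff_not_dvd hp.out).2 pD).pow_left k) (Or.inr inferInstance)
    have h5 : ⁅D, (P : Subgroup H)⁆ ≤ B := commutator_mono hN hPN
    refine comm_of_mem_sup (A := ⁅D, (P : Subgroup H)⁆) (B := D ⊓ centralizer (P : Set H))
      (fun a ha b hb => ab B hBD fB a (h5 ha) b (h5 hb))
      (fun a ha b hb => commutatorElement_eq_one_iff_mul_comm.1
        (fA _ (commutator_mem_commutator ha.1 hb.1) P fun y hy => ?_))
      (fun a ha b hb => commutator_le_centralizer_of_isCyclic B ?_ a (h5 ha))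
      a (h4.ge ha) b (h4.ge hb)
    · have : ⁅a, b⁆ ∈ centralizer (P : Set H) := by
        rw [commutatorElement_def]
        exact mul_mem (mul_mem (mul_mem ha.2 hb.2) (inv_mem ha.2)) (inv_mem hb.2)
      exact (this y hy).symm
    · exact hb.1

end H64.Garr
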