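import Mathlib
import Cfsg.Agent.Lib.Garr.E

/-! The module of linear characters fixed by `O_p(G)`. -/

set_option autoImplicit false
set_option linter.unusedSectionVars false

namespace H64.Garr

open Cfsg H6 H87 Subgroup H64.Palfy
open scoped ComplexConjugate commutatorElement

variable {G : Type*} [Group G] [Finite G]

/-- restriction of an action to an invariant subgroup -/
def resA {V : Type*} [Group V] (ψ : G →* MulAut V) (W : Subgroup V)
    (h : ∀ g, ∀ w ∈ W, ψ g w ∈ W) : G →* MulAut W where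
  toFun g :=
    { toFun := fun w => ⟨ψ g w, h g w w.2⟩
      invFun := fun w => ⟨ψ g⁻¹ w, h _ w w.2⟩
      left_inv := fun w => Subtype.ext (by simp)
      right_inv := fun w => Subtype.ext (by simp)
      map_mul' := fun a b => Subtype.ext (map_mul _ _ _) }
  map_one' := by ext w; simp
  map_mul' a b := by ext w; simp

theorem fin_dual : Finite (G →* ℂˣ) := by
  have h := card_hom_trivial (commutator G) le_rfl
  have : Finite {lam : G →* ℂˣ // ∀ x ∈ commutator G, lam x = 1} :=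
    Nat.finite_of_card_ne_zero (h ▸ index_ne_zero_of_finite)
  exact Finite.of_equiv {lam : G →* ℂˣ // ∀ x ∈ commutator G, lam x = 1}
    (Equiv.subtypeUnivEquiv fun μ x hx => Abelianization.commutator_subset_ker μ hx)

theorem pg_dual {p : ℕ} [Fact p.Prime] (h : IsPGroup p G) : IsPGroup p (G →* ℂˣ) := by
  obtain ⟨k, hk⟩ := h.exists_card_eq
  refine fun μ => ⟨k, MonoidHom.ext fun x => ?_⟩
  rw [MonoidHom.pow_apply, ← map_pow, ← hk, pow_card_eq_one', map_one]; rfl

theorem bot_of_le_comm {B M : Subgroup G} [Group.IsNilpotent B] (hM : M ≤ B)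
    (h : M ≤ ⁅M, B⁆) : M = ⊥ := by
  obtain ⟨n, hn⟩ := (isNilpotent_iff_lowerCentralSeries B).mp inferInstance
  have : ∀ k, M ≤ B.lowerCentralSeries k := fun k => by
    induction k with
    | zero => exact hM
    | succ k ih => exact h.trans (commutator_mono ih le_rfl)
  exact le_bot_iff.mp (hn ▸ this n)

theorem mem_inertia_hom {L : Subgroup G} [hL : L.Normal] {lam : L →* ℂˣ} {g : G} :
    g ∈ H7.inertia (fun n => (lam n : ℂ)) ↔
      ∀ (l : G) (hl : l ∈ L), lam ⟨⁅g, l⁆, mul_mem (hL.conj_mem l hl g) (inv_mem hl)⟩ = 1 := by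
  rw [H7.mem_inertia', Subtype.forall]
  refine forall₂_congr fun l hl => ?_
  rw [Units.val_inj, ← mul_inv_eq_one, ← map_inv, ← map_mul]; rfl

theorem exists_eq_comm {p : ℕ} [hp : Fact p.Prime] {X : Subgroup G} [X.Normal]
    (hC : centralizer (pCore p G : Set G) ≤ pCore p G) (h : ¬ X ≤ pCore p G) :
    ∃ L : Subgroup G, L.Normal ∧ L ≤ pCore p G ∧ L ≠ ⊥ ∧ L ≤ ⁅X, L⁆ := by
  obtain ⟨L, ⟨hL, h1, x, hx, h2, h3⟩, hm⟩ := exists_minimal_of_wellFoundedLT
    (fun L : Subgroup G => L.Normal ∧ L ≤ pCore p G ∧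
      ∃ x ∈ X, ¬ p ∣ orderOf x ∧ x ∉ centralizer (L : Set G)) ⟨pCore p G, inferInstance, le_rfl, by
      by_contra hn
      push Not at hn
      refine h (H1.le_pCore fun x => ?_)
      have h0 := (orderOf_pos (x : G)).ne'
      refine ⟨(orderOf (x : G)).factorization p, Subtype.ext ?_⟩
      have h1 : ¬ p ∣ orderOf ((x : G) ^ ordProj[p] (orderOf (x : G))) := by
        rw [orderOf_pow_of_dvd (Nat.ordProj_pos _ _).ne' (Nat.ordProj_dvd _ _)]
        exact Nat.not_dvd_ordCompl hp.out h0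
      obtain ⟨k, hk⟩ := (IsPGroup.iff_orderOf.1 (H1.isPGroup_pCore (p := p) (G := G)))
        ⟨_, hC (hn _ (pow_mem x.2 _) h1)⟩
      rw [← orderOf_coe] at hk
      rcases k with _ | k
      · simpa using hk
      · exact absurd (hk ▸ dvd_pow_self p k.succ_ne_zero) h1⟩
  refine ⟨L, hL, h1, fun e => h3 (fun l hl => by rw [e] at hl; rw [mem_bot.1 hl]; simp), not_not.1 fun hn => h3 fun l hl => ?_⟩
  have h4 : ⁅X, L⁆ ≤ L := commutator_le_right _ _
  have h5 : x ∈ centralizer ((⁅X, L⁆ : Subgroup G) : Set G) := not_not.1 fun e =>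
    hn (hm ⟨inferInstance, h4.trans h1, x, hx, h2, e⟩ h4)
  have h6 : ⁅x, l⁆ * x = x * ⁅x, l⁆ := h5 _ (commutator_mem_commutator hx hl)
  have h7 : ∀ n : ℕ, x ^ n * l * (x ^ n)⁻¹ = ⁅x, l⁆ ^ n * l := fun n => by
    induction n with
    | zero => simp
    | succ n ih =>
      have : x * ⁅x, l⁆ ^ n = ⁅x, l⁆ ^ n * x := (Commute.pow_left h6 n).eq.symm
      calc _ = x * (x ^ n * l * (x ^ n)⁻¹) * x⁻¹ := by group
        _ = _ := by rw [ih, ← mul_assoc, this, pow_succ, commutatorElement_def]; group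
  have h8 := h7 (orderOf x)
  rw [pow_orderOf_eq_one, one_mul, inv_one, mul_one, right_eq_mul] at h8
  obtain ⟨k, hk⟩ := (IsPGroup.iff_orderOf.1 (H1.isPGroup_pCore (p := p) (G := G)))
    ⟨_, h1 (h4 (commutator_mem_commutator hx hl))⟩
  rw [← orderOf_coe] at hk
  exact (commutatorElement_eq_one_iff_mul_comm.1 (orderOf_eq_one_iff.1 (Nat.eq_one_of_dvd_coprimes
    (((Nat.Prime.coprime_iff_not_dvd hp.out).2 h2).pow_left k) hk.dvd
    (orderOf_dvd_of_pow_eq_one h8)))).symm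

theorem lemG {p : ℕ} [hp : Fact p.Prime] (hC : centralizer (pCore p G : Set G) ≤ pCore p G)
    (N : Subgroup G) [N.Normal] (hFN : pCore p G ≤ N) (hN : commutator G ≤ N)
    (h3 : derivedSeries G 3 ≤ pCore p G) (h2 : ¬ derivedSeries G 2 ≤ pCore p G)
    (hs : ∀ (L : Subgroup G) [L.Normal], L ≤ pCore p G → ∀ lam : L →* ℂˣ,
      pCore p G ≤ H7.inertia (fun n => (lam n : ℂ)) →
      ¬ derivedSeries G 2 ≤ H7.inertia (fun n => (lam n : ℂ)) → ∃ I : Subgroup G, ¬ p ∣ I.index ∧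
        ∀ a ∈ commutator G, a ∈ H7.inertia (fun n => (lam n : ℂ)) → ∀ y ∈ I, ⁅a, y⁆ ∈ L)
    (hd : ∀ β, IsIrrCharacter G β → pCore p G ≤ charKer β → ¬ ⁅N, N⁆ ≤ charKer β →
      p ∣ charDegree β)
    (hf : ∀ β, IsIrrCharacter G β → pCore p G ≤ charKer β → ⁅N, N⁆ ≤ charKer β →
      charDegree β = 1 ∨ charDegree β = N.index) : False := by
  obtain ⟨L, hL, h4, h5, h6⟩ := exists_eq_comm hC h2
  set F := pCore p G
  have pF : IsPGroup p F := H1.isPGroup_pCore
  have := pF.isNilpotent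
  have := fin_dual (G := L)
  let W := H2.fixSub (H := L →* ℂˣ) (dual L) F
  have hW : ∀ lam : L →* ℂˣ, lam ∈ W ↔ F ≤ H7.inertia fun n => (lam n : ℂ) := fun lam => by
    rw [← st_dual]; rfl
  let ψ := resA (V := L →* ℂˣ) (dual L) W fun g w hw b hb => by
    rw [← MulAut.mul_apply, ← map_mul, show b * g = g * (g⁻¹ * b * g⁻¹⁻¹) by group, map_mul,
      MulAut.mul_apply, hw _ (Normal.conj_mem inferInstance b hb _)]
  let φ : G ⧸ F →* MulAut W := QuotientGroup.lift F ψ fun g hg =>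
    MulEquiv.ext fun w => Subtype.ext (w.2 g hg)
  have : Nontrivial W := by
    obtain ⟨l, hl, hn⟩ := SetLike.not_le_iff_exists.1 fun e : L ≤ ⁅F, L⁆ =>
      h5 (bot_of_le_comm h4 (commutator_comm F L ▸ e))
    obtain ⟨lam, e1, e2⟩ := exists_hom_trivial_ne_one (⁅F, L⁆.subgroupOf L)
      (commutator_le.2 fun a _ b _ => commutator_mem_commutator (h4 a.2) b.2) (g := ⟨l, hl⟩) hn
    exact ⟨⟨lam, (hW lam).2 fun g hg => mem_inertia_hom.2 fun l hl =>
      e1 _ (commutator_mem_commutator hg hl)⟩, 1, fun e => e2 (by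
        rw [show lam = 1 from congrArg Subtype.val e]; rfl)⟩
  have hπ := QuotientGroup.mk'_surjective F
  have hm : ∀ n, (derivedSeries G n).map (QuotientGroup.mk' F) = derivedSeries (G ⧸ F) n :=
    map_derivedSeries_eq hπ
  have hk : ∀ β, IsIrrCharacter (G ⧸ F) β → (⁅N.map (QuotientGroup.mk' F),
      N.map (QuotientGroup.mk' F)⁆ ≤ charKer β ↔ ⁅N, N⁆ ≤ charKer fun g : G => β g) := fun β hβ => by
    rw [← map_commutator, map_le_iff_le_comap]
    refine forall₂_congr fun g _ => ?_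
    rw [mem_comap, mem_charKer (irr_isCharacter hβ), mem_charKer (irr_isCharacter (isIrr_infl F hβ))]
    rfl
  refine lemE φ ((pg_dual (pF.to_le h4)).to_subgroup W) H1.pCore_quotient_pCore
    (N.map (QuotientGroup.mk' F)) ((hm 1).ge.trans (map_mono hN))
    (by rw [← hm, Subgroup.map_eq_bot_iff, QuotientGroup.ker_mk']; exact h3)
    (by rw [← hm, Ne, Subgroup.map_eq_bot_iff, QuotientGroup.ker_mk']; exact h2) (fun w hw => ?_)
    (fun β hβ e => hd _ (isIrr_infl F hβ) (le_charKer_infl F β) fun e' => e ((hk β hβ).2 e'))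
    fun β hβ e => ?_
  · obtain ⟨I, h7, h8⟩ := hs L h4 w ((hW w).1 w.2) fun e => hw (Subtype.ext (MonoidHom.ext
      fun l => by
        have : ⁅derivedSeries G 2, L⁆ ≤ w.1.ker.map L.subtype := commutator_le.2 fun g hg l hl =>
          ⟨_, mem_inertia_hom.1 (e hg) l hl, rfl⟩
        obtain ⟨l', h9, e'⟩ := this (h6 l.2)
        exact (Subtype.ext e' : l' = l) ▸ h9))
    obtain ⟨Q, hQ⟩ := exists_sylow_le h7
    refine ⟨Q.mapSurjective hπ, fun a ha e y hy => ?_⟩
    obtain ⟨a, ha', rfl⟩ := (hm 1).ge ha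
    obtain ⟨y, hy, rfl⟩ := hy
    exact commutatorElement_eq_one_iff_mul_comm.1 ((QuotientGroup.eq_one_iff _).2
      (h4 (h8 a ha' (st_dual L w.1 ▸ congrArg Subtype.val e) y (hQ hy))))
  · rw [index_map_eq _ hπ (by rwa [QuotientGroup.ker_mk'])]
    exact hf _ (isIrr_infl F hβ) (le_charKer_infl F β) ((hk β hβ).1 e)

end H64.Garr
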