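import Mathlib
import Cfsg.Agent.Lib.Garr.B

/-! Characters along `L ≤ N ≤ G`. -/

set_option autoImplicit false
set_option linter.unusedSectionVars false

namespace H64.Garr

open Cfsg H6 H87 Subgroup H64.Palfy
open scoped ComplexConjugate commutatorElement

variable {G : Type*} [Group G] [Finite G]

theorem over_sub {L N : Subgroup G} (h : L ≤ N) {ψ : N → ℂ} {θ : L → ℂ} :
    Over (L.subgroupOf N) ψ (fun n => θ ⟨(n : N), n.2⟩) ↔
      ∑ᶠ x : L, ψ ⟨x, h x.2⟩ * conj (θ x) ≠ 0 := by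
  rw [Over, ← finsum_comp_equiv (subgroupOfEquivOfLe h).toEquiv.symm]; rfl

theorem mid {L N : Subgroup G} (h : L ≤ N) {χ : G → ℂ} (hχ : IsIrrCharacter G χ) {θ : L → ℂ}
    (ho : Over L χ θ) : ∃ ψ, IsIrrCharacter N ψ ∧ Over N χ ψ ∧
      Over (L.subgroupOf N) ψ (fun n => θ ⟨(n : N), n.2⟩) := by
  classical
  have := Fintype.ofFinite N
  have := Fintype.ofFinite L
  obtain ⟨m, h1, h2, -⟩ := char_decomp (isCharacter_restrict N (irr_isCharacter hχ))
  by_contra hn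
  push Not at hn
  refine ho ?_
  rw [finsum_eq_sum_of_fintype, Finset.sum_congr rfl fun (x : L) _ => by
    rw [show χ x = _ from h2 ⟨x, h x.2⟩, Finset.sum_mul], Finset.sum_comm]
  refine Finset.sum_eq_zero fun ψ _ => ?_
  by_cases hm : m ψ = 0
  · simp [hm]
  have := hn ψ ψ.2 (over_iff.2 (by rw [h1]; exact_mod_cast hm))
  rw [over_sub h, not_not, finsum_eq_sum_of_fintype] at this
  simp only [mul_assoc, ← Finset.mul_sum, this, mul_zero]

theorem inertia_sub {L N : Subgroup G} [L.Normal] (h : L ≤ N) (θ : L → ℂ) :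
    H7.inertia (N := L.subgroupOf N) (fun n => θ ⟨(n : N), n.2⟩) = (H7.inertia θ).subgroupOf N := by
  ext g
  rw [mem_subgroupOf, H7.mem_inertia', H7.mem_inertia']
  exact ⟨fun e n => e ⟨⟨n, h n.2⟩, n.2⟩, fun e n => e ⟨(n : N), n.2⟩⟩

theorem le_inertia_of_ker {L M : Subgroup G} [L.Normal] [M.Normal] {lam : L →* ℂˣ} {χ : G → ℂ}
    (hχ : IsIrrCharacter G χ) (ho : Over L χ fun n => (lam n : ℂ)) (h : M ≤ charKer χ) :
    M ≤ H7.inertia fun n => (lam n : ℂ) := fun g hg => mem_inertia_hom.2 fun l hl =>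
  Units.val_injective (by
    simpa using ho.apply_eq_of_mem_ker (irr_isCharacter hχ) (isIrrCharacter_hom lam)
      (x := ⟨⁅g, l⁆, mul_mem (Normal.conj_mem inferInstance l hl g) (inv_mem hl)⟩)
      ((mem_charKer (irr_isCharacter hχ)).1 (h (commutator_le_left M L
        (commutator_mem_commutator hg hl)))))

theorem sub_comm {X N : Subgroup G} (h : X ≤ ⁅N, N⁆) : X.subgroupOf N ≤ commutator N :=
  fun x hx => by
    obtain ⟨y, hy, e⟩ := (map_subtype_commutator N).ge (h hx)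
    exact (Subtype.ext e : y = x) ▸ hy

theorem sub_ker {X N : Subgroup G} {χ : G → ℂ} {ψ : N → ℂ} (hχ : IsIrrCharacter G χ)
    (hψ : IsIrrCharacter N ψ) (ho : Over N χ ψ) (h : X ≤ charKer χ) :
    X.subgroupOf N ≤ charKer ψ := fun _ hx => (mem_charKer (irr_isCharacter hψ)).2
  (ho.apply_eq_of_mem_ker (irr_isCharacter hχ) hψ ((mem_charKer (irr_isCharacter hχ)).1 (h hx)))

theorem ker_sub {X N : Subgroup G} [X.Normal] (hX : X ≤ N) {χ : G → ℂ} {ψ : N → ℂ}
    (hχ : IsIrrCharacter G χ) (hψ : IsIrrCharacter N ψ) (ho : Over N χ ψ)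
    (h : X.subgroupOf N ≤ charKer ψ) : X ≤ charKer χ :=
  ho.le_charKer hχ (irr_isCharacter hψ) X hX fun _ hx => (mem_charKer (irr_isCharacter hψ)).1 (h hx)

theorem deg_dvd_of_ker {N : Subgroup G} [N.Normal] {β : G → ℂ} (hβ : IsIrrCharacter G β)
    (h : ⁅N, N⁆ ≤ charKer β) : charDegree β ∣ N.index := by
  obtain ⟨θ, hθ, ho⟩ := exists_under hβ N
  obtain ⟨k, h1, h2⟩ := ho.exists_deg_eq hβ hθ
  rwa [h1, deg_eq_one_of_commutator_le hθ (fun x hx => sub_ker hβ hθ ho h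
    ((map_subtype_commutator N).le (mem_map_of_mem _ hx))), mul_one]

theorem ne_one_of_over {X N : Subgroup G} [N.Normal] (h : X ≤ ⁅N, N⁆) {χ : G → ℂ} {ψ : N → ℂ}
    (hχ : IsIrrCharacter G χ) (hψ : IsIrrCharacter N ψ) (ho : Over N χ ψ)
    (hk : ¬ X ≤ charKer χ) : charDegree ψ ≠ 1 := fun e =>
  hk (h.trans (ho.commutator_le_charKer hχ hψ e))

theorem comm_sub {X N : Subgroup G} (hX : X ≤ N) :
    ⁅X.subgroupOf N, X.subgroupOf N⁆ = ⁅X, X⁆.subgroupOf N := by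
  apply map_injective N.subtype_injective
  rw [map_commutator, map_subgroupOf_eq_of_le hX,
    map_subgroupOf_eq_of_le ((commutator_le_self X).trans hX)]

theorem comm_of_one_sub {p : ℕ} [Fact p.Prime] {X N : Subgroup G} [X.Normal]
    (hX : IsPGroup p X) (hN : X ≤ N) {d : ℕ} (h : ∀ ψ χ, IsIrrCharacter N ψ → IsIrrCharacter G χ →
      Over N χ ψ → ¬ X ≤ charKer χ → charDegree ψ = d) : ⁅X, X⁆ = ⊥ := by
  have := comm_of_one (X := X.subgroupOf N) (hX.comap_subtype) (d := d) fun ψ hψ hk => by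
    obtain ⟨χ, hχ, ho⟩ := exists_over hψ
    exact h ψ χ hψ hχ ho fun e => hk (sub_ker hχ hψ ho e)
  rw [comm_sub hN, subgroupOf_eq_bot] at this
  exact this.eq_bot_of_le ((commutator_le_self X).trans hN)

theorem cd4 (h : (charDegrees G).ncard ≤ 4) {a b c : ℕ} (ha : a ∈ charDegrees G)
    (hb : b ∈ charDegrees G) (hc : c ∈ charDegrees G) (a1 : a ≠ 1) (b1 : b ≠ 1) (c1 : c ≠ 1)
    (h1 : a ≠ b) (h2 : a ≠ c) (h3 : b ≠ c) {χ : G → ℂ} (hχ : IsIrrCharacter G χ) :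
    charDegree χ = 1 ∨ charDegree χ = a ∨ charDegree χ = b ∨ charDegree χ = c :=
  or_iff_not_imp_left.2 fun e => not_four_le (s := charDegrees G \ {1}) finite_charDegrees.diff
    (by rw [Set.ncard_diff_singleton_of_mem one_mem_charDegrees]; omega) ⟨ha, a1⟩ ⟨hb, b1⟩ ⟨hc, c1⟩
    ⟨mem_charDegrees hχ, e⟩ h1 h2 h3

theorem thompsonN {p : ℕ} [Fact p.Prime] (hO : pPrimeCore p G = ⊥) {N : Subgroup G} [N.Normal]
    (h : ∀ ψ χ, IsIrrCharacter N ψ → IsIrrCharacter G χ → Over N χ ψ → charDegree ψ ≠ 1 →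
      p ∣ charDegree ψ ∨ (p ∣ charDegree χ ∧ ¬ p ∣ N.index)) : N ≤ pCore p G :=
  H1.le_pCore (thompson (pPrimeCore_normal hO N) fun ψ hψ h1 => by
    obtain ⟨χ, hχ, ho⟩ := exists_over hψ
    obtain ⟨k, h2, h3⟩ := ho.exists_deg_eq hχ hψ
    exact (h ψ χ hψ hχ ho h1).elim id fun e => ((Nat.Prime.dvd_mul Fact.out).1
      (h2 ▸ e.1)).resolve_left fun e' => e.2 (e'.trans h3))

theorem thompsonG {p : ℕ} [Fact p.Prime] (hO : pPrimeCore p G = ⊥)
    (h : ∀ χ, IsIrrCharacter G χ → charDegree χ ≠ 1 → p ∣ charDegree χ) : pCore p G = ⊤ :=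
  top_le_iff.1 (H1.le_pCore ((thompson hO h).to_subgroup ⊤))

/-- an invariant linear character of `O_p` is trivial on the commutators -/
theorem lemT {p : ℕ} [hp : Fact p.Prime] {X : Subgroup G} [X.Normal] (hX : ⁅X, X⁆ ≤ pCore p G)
    {χ : G → ℂ} (hχ : IsIrrCharacter G χ) (hk : ¬ ⁅X, X⁆ ≤ charKer χ)
    (h : ∀ θ, IsIrrCharacter (pCore p G) θ → Over (pCore p G) χ θ → X ≤ H7.inertia θ) :
    p ∣ charDegree χ := by
  obtain ⟨θ, hθ, ho⟩ := exists_under hχ (pCore p G)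
  have hi := h θ hθ ho
  have hO := H1.pCore_quotient_pCore (p := p) (G := G)
  set F := pCore p G
  obtain ⟨k, e⟩ := IsPGroup.iff_card.1 (H1.isPGroup_pCore : IsPGroup p F)
  obtain ⟨j, -, hj⟩ := (Nat.dvd_prime_pow hp.out).1 (e ▸ deg_dvd_card hθ)
  rcases j with _ | j
  swap
  · exact (hj ▸ dvd_pow_self p j.succ_ne_zero).trans (ho.deg_dvd hχ hθ)
  obtain ⟨lam, rfl⟩ := exists_hom_of_char_one_eq_one (irr_isCharacter hθ)
    ((deg_eq_one_iff (irr_isCharacter hθ)).1 hj)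
  have h1 := not_dvd_of_nilp hO (X := X.map (QuotientGroup.mk' F))
    (H1.isNilpotent_of_commutator_le_centralizer (by
      rw [← map_commutator, (Subgroup.map_eq_bot_iff _).2 (by rwa [QuotientGroup.ker_mk'])]
      exact bot_le))
  have h2 : ⁅X, X⁆ ≤ lam.ker.map F.subtype := commutator_le.2 fun x hx y hy => by
    have m : ∀ n : ℕ, ⁅x ^ n, y⁆ ∈ F := fun n => hX (commutator_mem_commutator (pow_mem hx n) hy)
    have m1 : ⁅x, y⁆ ∈ F := hX (commutator_mem_commutator hx hy)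
    have h3 : ∀ n : ℕ, lam ⟨_, m n⟩ = lam ⟨_, m1⟩ ^ n := fun n => by
      induction n with
      | zero => rw [pow_zero (lam _), ← map_one lam]; congr 1; ext; simp
      | succ n ih =>
        rw [pow_succ (lam _), ← ih, ← Units.val_inj.1 (H7.mem_inertia'.1 (hi hx) ⟨_, m n⟩), ← map_mul]
        congr 1
        ext
        simp only [commutatorElement_def, coe_mul]; group
    have h4 : x ^ Nat.card (X.map (QuotientGroup.mk' F)) ∈ F := (QuotientGroup.eq_one_iff _).1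
      (congrArg Subtype.val (pow_card_eq_one' (x := (⟨_, mem_map_of_mem _ hx⟩ :
        X.map (QuotientGroup.mk' F)))))
    have h5 := h3 (Nat.card (X.map (QuotientGroup.mk' F)))
    have h6 := mem_inertia_hom.1 (hi hy) _ h4
    rw [← inv_eq_one, ← map_inv] at h6
    refine ⟨⟨_, m1⟩, orderOf_eq_one_iff.1 (Nat.eq_one_of_dvd_coprimes
      (((Nat.Prime.coprime_iff_not_dvd hp.out).2 h1).pow_left k)
      (e ▸ (orderOf_map_dvd lam _).trans (orderOf_dvd_natCard _))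
      (orderOf_dvd_of_pow_eq_one (h5.symm.trans (Eq.trans ?_ h6)))), rfl⟩
    congr 1
    ext
    simp
  refine absurd (ho.le_charKer hχ (irr_isCharacter hθ) _ hX fun x hx => ?_) hk
  obtain ⟨y, hy, e'⟩ := h2 hx
  rw [← (Subtype.ext e' : y = x), show lam y = 1 from hy, map_one]

end H64.Garr
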