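import Mathlib
import Cfsg.Agent.Lib.Garr.C

/-! The structure of a nonabelian quotient, and the cases of small Fitting height. -/

set_option autoImplicit false
set_option linter.unusedSectionVars false

namespace H64.Garr

open Cfsg H6 H87 Subgroup H64.Palfy
open scoped ComplexConjugate commutatorElement

variable {G : Type*} [Group G] [Finite G]

theorem exists_desc {F : Subgroup G} [F.Normal] {β : G → ℂ} (hβ : IsIrrCharacter G β)
    (h : F ≤ charKer β) : ∃ γ, IsIrrCharacter (G ⧸ F) γ ∧ β = fun g : G => γ g := by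
  obtain ⟨γ, e⟩ := (inflEquiv F).surjective ⟨⟨β, hβ⟩, h⟩
  exact ⟨γ, γ.2, funext fun g => by rw [← inflEquiv_apply, e]⟩

theorem mem_ker_infl {F : Subgroup G} [F.Normal] {γ : G ⧸ F → ℂ} (h : IsIrrCharacter (G ⧸ F) γ)
    {g : G} : g ∈ charKer (fun g : G => γ g) ↔ (g : G ⧸ F) ∈ charKer γ := by
  rw [mem_charKer (irr_isCharacter h), mem_charKer (irr_isCharacter (isIrr_infl F h))]; rfl

theorem struct [Group.IsSolvable G] (F : Subgroup G) [F.Normal] (h : ¬ commutator G ≤ F) :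
    (∃ (K : Subgroup G) (r : ℕ) (Z : Subgroup G) (τ : G → ℂ), K.Normal ∧ CaseA K r Z τ ∧ F ≤ K ∧
      ∀ β, IsIrrCharacter G β → F ≤ charKer β → ¬ r ∣ charDegree β →
        ∃ η, IsIrrCharacter G η ∧ F ≤ charKer η ∧ charDegree η = charDegree τ * charDegree β) ∨
    ∃ (K : Subgroup G) (r : ℕ) (N : Subgroup G), K.Normal ∧ CaseB K r N ∧ F ≤ K ∧
      ∀ β, IsIrrCharacter G β → F ≤ charKer β → ¬ ⁅N, N⁆ ≤ charKer β → r ∣ charDegree β ∨
        ∃ η, IsIrrCharacter G η ∧ F ≤ charKer η ∧ ∃ w, w ≠ 1 ∧ ¬ r ∣ w ∧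
          charDegree η = N.index * w := by
  have hf := QuotientGroup.mk'_surjective F
  have hm : (commutator G).map (QuotientGroup.mk' F) = commutator (G ⧸ F) :=
    map_derivedSeries_eq hf 1
  obtain ⟨K, hK, -⟩ := exists_maxNA (G := G ⧸ F) (L := ⊥) inferInstance (by
    rwa [← hm, le_bot_iff, Subgroup.map_eq_bot_iff, QuotientGroup.ker_mk'])
  have := hK.normal
  have hFK : F ≤ K.comap (QuotientGroup.mk' F) := fun g hg => by
    rw [mem_comap, QuotientGroup.mk'_apply, (QuotientGroup.eq_one_iff g).2 hg]; exact one_mem _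
  rcases hK.cases_of_isSolvable with ⟨r, Z, τ, hA⟩ | ⟨r, N, hB⟩
  · refine Or.inl ⟨K.comap (QuotientGroup.mk' F), r, Z.comap (QuotientGroup.mk' F), fun g => τ g, this.comap _, ⟨hA.prime,
      fun g => hA.pow_mem g, hA.normal.comap _, fun z => (hA.mem_iff z).trans
        ⟨fun H g => H g, fun H g => ?_⟩, isIrr_infl F hA.irr,
      fun g hg => (mem_ker_infl hA.irr).2 (hA.ker hg), hA.ne_one,
      hA.sq.trans (index_comap_of_surjective _ hf).symm,
      fun z hz => hA.norm _ hz, fun g hg => hA.vanish _ hg⟩, hFK, fun β hβ h1 h2 => ?_⟩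
    · obtain ⟨g, rfl⟩ := QuotientGroup.mk_surjective g
      exact H g
    · obtain ⟨γ, hγ, rfl⟩ := exists_desc hβ h1
      obtain ⟨η, h3, h4⟩ := hA.exists_deg_mul_of_not_dvd hγ h2
      exact ⟨_, isIrr_infl F h3, le_charKer_infl F η, h4⟩
  · obtain ⟨τ, h1, h2, h3⟩ := hB.deg
    have hi := index_comap_of_surjective N hf
    have := hB.normal
    refine Or.inr ⟨K.comap (QuotientGroup.mk' F), r, N.comap (QuotientGroup.mk' F), hK.normal.comap _, ⟨hB.prime,
      hB.normal.comap _, (comap_lt_comap_of_surjective hf).2 hB.lt,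
      map_le_iff_le_comap.1 (hm ▸ hB.le), fun a ha b hb => hB.comm _ ha _ hb,
      fun x hx => hB.pow_mem _ hx, hi ▸ hB.not_dvd, fun e => hB.ne_top (by
        rw [← index_eq_one, ← hi, e, index_top]),
      fun g hg n hn e => hB.fpf _ hg _ hn e, fun g => τ g,
      isIrr_infl F h1, fun g hg => (mem_ker_infl h1).2 (h2 hg), h3.trans hi.symm⟩, hFK,
      fun β hβ h4 h5 => ?_⟩
    obtain ⟨γ, hγ, rfl⟩ := exists_desc hβ h4
    obtain ⟨ψ, hψ, ho⟩ := exists_under hγ N
    by_cases h6 : r ∣ charDegree ψ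
    · exact Or.inl (h6.trans (ho.deg_dvd hγ hψ))
    obtain ⟨η, h7, h8⟩ := (hB.deg_or_dvd hψ).resolve_right h6
    refine Or.inr ⟨_, isIrr_infl F h7, le_charKer_infl F η, _, ne_one_of_over le_rfl hγ hψ ho
      fun e => h5 fun g hg => (mem_ker_infl hγ).2 (e ?_), h6, hi ▸ h8⟩
    have := mem_map_of_mem (QuotientGroup.mk' F) hg
    rwa [map_commutator, map_comap_eq_self_of_surjective hf] at this

theorem allDiv (h4 : (charDegrees G).ncard ≤ 4) {r e : ℕ} (hr : r.Prime)
    (ha : r ^ (e + 1) ∈ charDegrees G)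
    (h : ∀ χ, IsIrrCharacter G χ → charDegree χ ≠ 1 → r ∣ charDegree χ) :
    derivedSeries G 4 = ⊥ := by
  have := Fact.mk hr
  have h1 := not_dvd_card_pResidual (G := G) hr h
  set N := pResidual r G
  have : N.Normal := H4.pResidual_normal r G
  obtain ⟨k, hk⟩ : ∃ k, N.index = r ^ k := H4.index_pResidual_eq_pow r
  by_cases h2 : ∀ θ, IsIrrCharacter N θ → charDegree θ = 1
  · exact (isM_of_index_pow hr N (fun a ha b hb => congrArg Subtype.val
      (comm_of_forall_deg_eq_one h2 ⟨a, ha⟩ ⟨b, hb⟩)) hk).derivedSeries_eq_bot h4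
  push Not at h2
  obtain ⟨θ, hθ, h2⟩ := h2
  obtain ⟨χ, hχ, ho⟩ := exists_over hθ
  have key : ∀ {θ χ}, IsIrrCharacter N θ → charDegree θ ≠ 1 → IsIrrCharacter G χ → Over N χ θ →
      charDegree χ ∉ charDegrees (G ⧸ ⁅N, N⁆) := fun {θ χ} hθ h2 hχ ho ⟨β, e'⟩ =>
    h2 (Nat.eq_one_of_dvd_coprimes (((Nat.Prime.coprime_iff_not_dvd hr).2 h1).pow_left k)
      ((ho.deg_dvd hχ hθ).trans (hk ▸ e' ▸ deg_dvd_of_ker (isIrr_infl _ β.2)
        (le_charKer_infl _ _))) (deg_dvd_card hθ))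
  have hm : ∀ i, (derivedSeries N (i + 1)).map N.subtype = ⁅(derivedSeries N i).map N.subtype,
      (derivedSeries N i).map N.subtype⁆ := fun i => map_commutator _ _ _
  have hm1 : ⁅N, N⁆ = (derivedSeries N 1).map N.subtype := (map_subtype_commutator N).symm
  have hd : (charDegrees G \ {charDegree χ}).ncard ≤ 3 := by
    rw [Set.ncard_diff_singleton_of_mem (mem_charDegrees hχ)]; omega
  by_cases h3 : ∀ θ', IsIrrCharacter N θ' → charDegree θ' = 1 ∨ charDegree θ' = charDegree θ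
  · have h5 : derivedSeries G 3 ≤ ⁅N, N⁆ := derivedSeries_le_of_quotient (derivedSeries_three_eq_bot
      ((Set.ncard_le_ncard (t := charDegrees G \ {charDegree χ})
        (fun x hx => ⟨charDegrees_quotient_subset _ hx, fun e' => key hθ h2 hχ ho (e' ▸ hx)⟩) finite_charDegrees.diff).trans hd))
    refine le_bot_iff.1 ((commutator_mono h5 h5).trans ?_)
    rw [hm1, ← hm, derivedSeries_two_eq_bot (ncard_le_two_of_cd h3), Subgroup.map_bot]
  push Not at h3
  obtain ⟨θ', hθ', h3, h5⟩ := h3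
  obtain ⟨χ', hχ', ho'⟩ := exists_over hθ'
  have h6 : derivedSeries G 2 ≤ ⁅N, N⁆ := derivedSeries_le_of_quotient (derivedSeries_two_eq_bot
    ((Set.ncard_le_ncard (t := (charDegrees G \ {charDegree χ}) \ {charDegree χ'})
      (fun x hx => ⟨⟨charDegrees_quotient_subset _ hx, fun e' => key hθ h2 hχ ho (e' ▸ hx)⟩,
        fun e' => key hθ' h3 hχ' ho' (e' ▸ hx)⟩) finite_charDegrees.diff.diff).trans (by
      rw [Set.ncard_diff_singleton_of_mem (s := charDegrees G \ {charDegree χ})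
        ⟨mem_charDegrees hχ', fun e' => h5 (by
        rw [ho'.deg_eq_ordCompl hr h1 hk hχ' hθ', ho.deg_eq_ordCompl hr h1 hk hχ hθ, e'])⟩]
      omega)))
  have h7 : derivedSeries N 3 = ⊥ := derivedSeries_three_eq_bot (((Set.ncard_le_ncard
    (t := (fun n => ordCompl[r] n) '' (charDegrees G \ {r ^ (e + 1)})) (fun x hx => by
      obtain ⟨y, hy, rfl⟩ := charDegrees_subset_image hr h1 hk hx
      by_cases e' : y = r ^ (e + 1)
      · exact ⟨1, ⟨one_mem_charDegrees, (one_lt_pow₀ hr.one_lt e.succ_ne_zero).ne⟩, by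
          simp only [e', Nat.ordCompl_self_pow hr]; simp⟩
      · exact ⟨y, ⟨hy, e'⟩, rfl⟩) (finite_charDegrees.diff.image _)).trans
    (Set.ncard_image_le finite_charDegrees.diff)).trans (by
      rw [Set.ncard_diff_singleton_of_mem ha]; omega))
  refine le_bot_iff.1 ((commutator_mono (commutator_mono h6 h6) (commutator_mono h6 h6)).trans ?_)
  rw [hm1, ← hm, ← hm, h7, Subgroup.map_bot]

theorem ds_le (n : ℕ) : derivedSeries G (n + 1) ≤ derivedSeries G n := commutator_le_self _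

theorem ne_one_of_not_le {χ : G → ℂ} (hχ : IsIrrCharacter G χ) {n : ℕ}
    (h : ¬ derivedSeries G (n + 1) ≤ charKer χ) : charDegree χ ≠ 1 := fun e =>
  h ((derivedSeries_antitone G (Nat.le_add_left 1 n)).trans
    (commutator_le_charKer_of_deg_one (irr_isCharacter hχ) e))

theorem low {p : ℕ} [Fact p.Prime] (h4 : (charDegrees G).ncard ≤ 4) (hV : derivedSeries G 4 ≠ ⊥)
    (h2 : derivedSeries G 2 ≤ pCore p G) : ¬ commutator G ≤ pCore p G ∧
    (∀ χ ψ, IsIrrCharacter G χ → IsIrrCharacter G ψ → charDegree χ ≠ 1 → charDegree ψ ≠ 1 →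
      (charDegree χ).factorization p = (charDegree ψ).factorization p →
        charDegree χ = charDegree ψ) ∧
    ∀ χ, IsIrrCharacter G χ → charDegree χ ≠ 1 → ∃ ψ, IsIrrCharacter G ψ ∧
      ¬ derivedSeries G 2 ≤ charKer ψ ∧ charDegree ψ = charDegree χ := by
  have pF : IsPGroup p (pCore p G) := H1.isPGroup_pCore
  obtain ⟨c, hc, kc⟩ := exists_irr_not_le_charKer hV
  obtain ⟨b, hb, kb, vb⟩ := t1 (pF.to_le ((ds_le 2).trans h2)) hc kc
  obtain ⟨a, ha, ka, va⟩ := t1 (pF.to_le h2) hb kb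
  have hcd := fun χ (hχ : IsIrrCharacter G χ) => cd4 h4 (mem_charDegrees ha) (mem_charDegrees hb)
    (mem_charDegrees hc) (ne_one_of_not_le ha ka) (ne_one_of_not_le hb kb) (ne_one_of_not_le hc kc)
    (fun e => by rw [e] at va; omega) (fun e => by rw [e] at va; omega)
    (fun e => by rw [e] at vb; omega) hχ
  refine ⟨fun h1 => ?_, fun χ ψ hχ hψ h5 h6 h7 => ?_, fun χ hχ h5 => ?_⟩
  · obtain ⟨β, hβ, k, v⟩ := t1 (pF.to_le h1) ha ka
    rcases (hcd β hβ).resolve_left (ne_one_of_not_le hβ (n := 0) k) with e | e | e <;>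
      rw [e] at v <;> omega
  · rcases (hcd χ hχ).resolve_left h5 with e | e | e <;>
      rcases (hcd ψ hψ).resolve_left h6 with e' | e' | e' <;> rw [e, e'] at h7 ⊢ <;> omega
  · rcases (hcd χ hχ).resolve_left h5 with e | e | e
    exacts [⟨a, ha, ka, e.symm⟩, ⟨b, hb, fun h => kb ((ds_le 2).trans h), e.symm⟩,
      ⟨c, hc, fun h => kc ((ds_le 3).trans ((ds_le 2).trans h)), e.symm⟩]

end H64.Garr
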