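import Mathlib
import Cfsg.Agent.Lib.Garr.D

/-! Four character degrees: the cases `G'' ≤ O_p(G)` and the `r`-group case. -/

set_option autoImplicit false
set_option linter.unusedSectionVars false

namespace H64.Garr

open Cfsg H6 H87 Subgroup H64.Palfy
open scoped ComplexConjugate commutatorElement

variable {G : Type*} [Group G] [Finite G] {p : ℕ} [hp : Fact p.Prime]

theorem exU (h4 : (charDegrees G).ncard ≤ 4) (hV : derivedSeries G 4 ≠ ⊥) {K N : Subgroup G}
    [K.Normal] {r : ℕ} (hB : CaseB K r N) : ∃ χ, IsIrrCharacter G χ ∧ r ∣ charDegree χ := by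
  by_contra hn
  push Not at hn
  have := hB.normal
  have h0 := hB.one_lt
  have h1 : derivedSeries N 3 = ⊥ := derivedSeries_three_eq_bot (((Set.ncard_le_ncard
    (t := (fun n => n / N.index) '' (charDegrees G \ {1})) (by
      rintro _ ⟨ψ, rfl⟩
      obtain ⟨χ, hχ, ho⟩ := exists_over ψ.2
      obtain ⟨η, h2, h3⟩ := (hB.deg_or_dvd ψ.2).resolve_right fun e =>
        hn χ hχ (e.trans (ho.deg_dvd hχ ψ.2))
      exact ⟨_, ⟨mem_charDegrees h2, fun e => h0.ne' (Nat.eq_one_of_mul_eq_one_right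
        (h3.symm.trans e))⟩, by simp only [h3]; exact Nat.mul_div_cancel_left _ (by omega)⟩)
    (finite_charDegrees.diff.image _)).trans (Set.ncard_image_le finite_charDegrees.diff)).trans (by
      rw [Set.ncard_diff_singleton_of_mem one_mem_charDegrees]; omega))
  have := derivedSeries_add_le N.subtype (j := 1) (by rw [range_subtype]; exact hB.le) 3
  rw [h1, Subgroup.map_bot] at this
  exact hV (le_bot_iff.1 this)

theorem degw {K N : Subgroup G} [K.Normal] {r w : ℕ} (hB : CaseB K r N)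
    (hcd : ∀ χ, IsIrrCharacter G χ → charDegree χ = 1 ∨ charDegree χ = N.index ∨
      r ∣ charDegree χ ∨ charDegree χ = N.index * w) {ψ : N → ℂ} (hψ : IsIrrCharacter N ψ)
    (h1 : charDegree ψ ≠ 1) (h2 : ¬ r ∣ charDegree ψ) : charDegree ψ = w := by
  obtain ⟨η, h3, h4⟩ := (hB.deg_or_dvd hψ).resolve_right h2
  have h0 := hB.one_lt
  rcases hcd η h3 with e | e | e | e <;> rw [h4] at e
  · exact absurd (Nat.eq_one_of_mul_eq_one_left e) h1
  · exact absurd ((Nat.mul_eq_left (by omega)).1 e) h1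
  · exact absurd ((hB.prime.dvd_mul.1 e).resolve_left hB.not_dvd) h2
  · exact Nat.eq_of_mul_eq_mul_left (by omega) e

theorem lowA (h4 : (charDegrees G).ncard ≤ 4) (hV : derivedSeries G 4 ≠ ⊥)
    (h2 : derivedSeries G 2 ≤ pCore p G) {K Z : Subgroup G} [K.Normal] {r : ℕ} {τ : G → ℂ}
    (hA : CaseA K r Z τ) : False := by
  obtain ⟨e, he⟩ := hA.deg_eq
  refine hV (allDiv h4 hA.prime (he ▸ mem_charDegrees hA.irr) fun χ hχ h1 => not_not.1 fun h3 => ?_)
  obtain ⟨η, h5, h6⟩ := hA.exists_deg_mul_of_not_dvd hχ h3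
  have h7 := (low h4 hV h2).2.1
  have h8 : charDegree η ≠ 1 := fun e' => h1 (Nat.eq_one_of_mul_eq_one_left (h6.symm.trans e'))
  have h9 : (charDegree η).factorization p =
      (charDegree τ).factorization p + (charDegree χ).factorization p := by
    rw [h6, Nat.factorization_mul (deg_ne_zero hA.irr) (deg_ne_zero hχ)]; rfl
  by_cases hpr : p = r
  · rw [Nat.factorization_eq_zero_of_not_dvd (hpr ▸ h3 : ¬ p ∣ charDegree χ), add_zero] at h9
    exact h1 ((Nat.mul_eq_left (deg_ne_zero hA.irr)).1 (h6.symm.trans (h7 _ _ h5 hA.irr h8 hA.ne_one h9)))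
  · rw [Nat.factorization_eq_zero_of_not_dvd (n := charDegree τ) fun e' => hpr
      ((Nat.prime_dvd_prime_iff_eq hp.out hA.prime).1 (hp.out.dvd_of_dvd_pow (he ▸ e'))),
      zero_add] at h9
    exact hA.ne_one ((Nat.mul_eq_right (deg_ne_zero hχ)).1 (h6.symm.trans (h7 _ _ h5 hχ h8 h1 h9)))

theorem ds2_le {K N : Subgroup G} {r : ℕ} (hB : CaseB K r N) : derivedSeries G 2 ≤ ⁅N, N⁆ :=
  commutator_mono hB.le hB.le

theorem lowB (h4 : (charDegrees G).ncard ≤ 4) (hV : derivedSeries G 4 ≠ ⊥)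
    (hO : pPrimeCore p G = ⊥) (h2 : derivedSeries G 2 ≤ pCore p G) {K N : Subgroup G} [K.Normal]
    {r : ℕ} (hB : CaseB K r N) : False := by
  have := hB.normal
  have h0 := hB.one_lt
  have pF : IsPGroup p (pCore p G) := H1.isPGroup_pCore
  obtain ⟨h5, h6, h7⟩ := low h4 hV h2
  obtain ⟨τ, hτ, -, eτ⟩ := hB.deg
  obtain ⟨χ, hχ, kχ, eχ⟩ := h7 τ hτ (by omega)
  obtain ⟨ψ, hψ, ho⟩ := exists_under hχ N
  have w1 := ne_one_of_over (ds2_le hB) hχ hψ ho kχ
  have wf : charDegree ψ ∣ N.index := eτ ▸ eχ ▸ ho.deg_dvd hχ hψ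
  have rw' : ¬ r ∣ charDegree ψ := fun e => hB.not_dvd (e.trans wf)
  obtain ⟨η, hη, eη⟩ := (hB.deg_or_dvd hψ).resolve_right rw'
  obtain ⟨μ, hμ, rμ⟩ := exU h4 hV hB
  have rη : ¬ r ∣ charDegree η := eη ▸ hB.prime.not_dvd_mul hB.not_dvd rw'
  have η1 : charDegree η ≠ 1 := fun e => w1 (Nat.eq_one_of_mul_eq_one_left (eη.symm.trans e))
  have ηf : charDegree τ ≠ charDegree η := fun e =>
    w1 ((Nat.mul_eq_left (by omega)).1 (eη.symm.trans (e.symm.trans eτ)))
  have hcd := fun χ (hχ : IsIrrCharacter G χ) => cd4 h4 (mem_charDegrees hτ) (mem_charDegrees hμ)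
    (mem_charDegrees hη) (by omega) (fun e => hB.prime.not_dvd_one (e ▸ rμ)) η1
    (fun e => hB.not_dvd (eτ ▸ e ▸ rμ)) ηf (fun e => rη (e ▸ rμ)) hχ
  have pw : p ∣ charDegree ψ := not_not.1 fun e => ηf (h6 _ _ hτ hη (by omega) η1 (by
    rw [eη, eτ, Nat.factorization_mul (by omega) (deg_ne_zero hψ), Finsupp.add_apply,
      Nat.factorization_eq_zero_of_not_dvd e, add_zero]))
  have pu : ¬ p ∣ charDegree μ := fun e => h5 (le_top.trans (thompsonG hO fun χ hχ h1 => by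
    rcases (hcd χ hχ).resolve_left h1 with e' | e' | e' <;> rw [e']
    exacts [eτ ▸ pw.trans wf, e, eη ▸ pw.mul_left _]).ge)
  refine hV (comm_of_one_sub (X := derivedSeries G 3) (N := N) (pF.to_le ((ds_le 2).trans h2))
    ((ds_le 2).trans ((ds_le 1).trans hB.le)) (d := charDegree ψ) fun ψ' χ' hψ' hχ' ho' k => ?_)
  refine degw hB (fun χ hχ => ?_) hψ' (ne_one_of_over ((ds_le 2).trans (ds2_le hB)) hχ' hψ' ho' k)
    fun e => ?_
  · rcases hcd χ hχ with e' | e' | e' | e' <;> rw [e']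
    exacts [Or.inl rfl, Or.inr (Or.inl eτ), Or.inr (Or.inr (Or.inl rμ)), Or.inr (Or.inr (Or.inr eη))]
  · have h8 := e.trans (ho'.deg_dvd hχ' hψ')
    rcases hcd χ' hχ' with e' | e' | e' | e'
    exacts [hB.prime.not_dvd_one (e' ▸ h8), hB.not_dvd (eτ ▸ e' ▸ h8),
      pu (e' ▸ dvd_of_not_le (pF.to_le h2) hχ' k), rη (e' ▸ h8)]

theorem top [Group.IsSolvable G] (hO : pPrimeCore p G = ⊥) (hF : pCore p G ≠ ⊤) :
    ∃ ζ, IsIrrCharacter G ζ ∧ (∀ χ, IsIrrCharacter G χ → charDegree χ ≤ charDegree ζ) ∧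
      ∀ β, IsIrrCharacter G β → pCore p G ≤ charKer β → charDegree β ≠ charDegree ζ := by
  obtain ⟨_, ⟨ζ, rfl⟩, hm⟩ := Set.exists_max_image _ id (finite_charDegrees (G := G))
    ⟨1, one_mem_charDegrees⟩
  refine ⟨ζ, ζ.2, fun χ hχ => hm _ (mem_charDegrees hχ), fun β hβ h1 h2 => ?_⟩
  obtain ⟨ψ, hψ, h3, -⟩ := broline_garrison hβ (or_iff_not_imp_left.2 fun h => by
    rw [not_not, H1.fitting_eq_pCore_of_pPrimeCore_eq_bot hO] at h
    exact ⟨(H1.fitting_eq_pCore_of_pPrimeCore_eq_bot hO).symm ▸ le_antisymm h h1, inferInstance,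
      fun e => hF (top_le_iff.1 (e ▸ h))⟩)
  exact h3.not_ge (h2 ▸ hm _ (mem_charDegrees hψ))

theorem three [Group.IsSolvable G] (h4 : (charDegrees G).ncard ≤ 4) (hO : pPrimeCore p G = ⊥) :
    derivedSeries G 3 ≤ pCore p G := by
  by_cases hF : pCore p G = ⊤
  · exact hF ▸ le_top
  obtain ⟨ζ, hζ, -, h⟩ := top hO hF
  refine derivedSeries_le_of_quotient (derivedSeries_three_eq_bot ((Set.ncard_le_ncard
    (t := charDegrees G \ {charDegree ζ}) (fun x hx => ⟨charDegrees_quotient_subset _ hx, ?_⟩)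
    finite_charDegrees.diff).trans (by
      rw [Set.ncard_diff_singleton_of_mem (mem_charDegrees hζ)]; omega)))
  obtain ⟨β, rfl⟩ := hx
  exact h _ (isIrr_infl _ β.2) (le_charKer_infl _ _)

theorem third {F : Subgroup G} [F.Normal] (h : ¬ derivedSeries G 2 ≤ F) (f : ℕ) :
    ∃ β, IsIrrCharacter G β ∧ F ≤ charKer β ∧ charDegree β ≠ 1 ∧ charDegree β ≠ f := by
  by_contra hn
  push Not at hn
  exact h (derivedSeries_le_of_quotient (derivedSeries_two_eq_bot (ncard_le_two_of_cd (m := f)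
    fun γ hγ => or_iff_not_imp_left.2 (hn _ (isIrr_infl _ hγ) (le_charKer_infl _ _)))))

theorem highA [Group.IsSolvable G] (h4 : (charDegrees G).ncard ≤ 4) (hV : derivedSeries G 4 ≠ ⊥)
    (hO : pPrimeCore p G = ⊥) (h2 : ¬ derivedSeries G 2 ≤ pCore p G) {K Z : Subgroup G} [K.Normal]
    {r : ℕ} {τ : G → ℂ} (hA : CaseA K r Z τ)
    (h : ∀ β, IsIrrCharacter G β → pCore p G ≤ charKer β → ¬ r ∣ charDegree β →
      ∃ η, IsIrrCharacter G η ∧ pCore p G ≤ charKer η ∧
        charDegree η = charDegree τ * charDegree β) : False := by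
  obtain ⟨e, he⟩ := hA.deg_eq
  refine hV (allDiv h4 hA.prime (he ▸ mem_charDegrees hA.irr) fun χ hχ h1 => not_not.1 fun h3 => ?_)
  obtain ⟨η, h5, h6⟩ := hA.exists_deg_mul_of_not_dvd hχ h3
  obtain ⟨ζ, hζ, h7, h8⟩ := top hO fun e => h2 (e ▸ le_top)
  obtain ⟨β, hβ, kβ, β1, βa⟩ := third h2 (charDegree τ)
  have a1 := hA.one_lt
  have b1 : 1 < charDegree χ := lt_of_le_of_ne (deg_pos hχ) h1.symm
  have l1 : charDegree τ < charDegree η := by rw [h6]; nlinarith
  have l2 : charDegree χ < charDegree η := by rw [h6]; nlinarith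
  have hcd := fun χ' (hχ' : IsIrrCharacter G χ') => cd4 h4 (mem_charDegrees hA.irr)
    (mem_charDegrees hχ) (mem_charDegrees h5) hA.ne_one h1 (by omega)
    (fun e' => h3 (e' ▸ he ▸ dvd_pow_self r e.succ_ne_zero)) l1.ne l2.ne hχ'
  have e1 : charDegree ζ = charDegree η := by
    have := h7 η h5
    have := hcd ζ hζ
    omega
  have e2 : charDegree β = charDegree χ := by
    have := hcd β hβ
    have := h8 β hβ kβ
    omega
  obtain ⟨η', h9, k, e3⟩ := h β hβ kβ (e2 ▸ h3)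
  exact h8 η' h9 k (by rw [e3, e2, e1, h6])

end H64.Garr
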