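import Mathlib
import Cfsg.Agent.Lib.Garr.F

/-! Four character degrees: the Frobenius case with `G'' ≰ O_p(G)`. -/

set_option autoImplicit false
set_option linter.unusedSectionVars false

namespace H64.Garr

open Cfsg H6 H87 Subgroup H64.Palfy
open scoped ComplexConjugate commutatorElement

variable {G : Type*} [Group G] [Finite G] {p : ℕ} [hp : Fact p.Prime]

/-- the data of the last case -/
structure Hi (p : ℕ) (K : Subgroup G) (r : ℕ) (N : Subgroup G) (y z : ℕ) : Prop where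
  hV : derivedSeries G 4 ≠ ⊥
  hO : pPrimeCore p G = ⊥
  hC : centralizer (pCore p G : Set G) ≤ pCore p G
  h3 : derivedSeries G 3 ≤ pCore p G
  h2 : ¬ derivedSeries G 2 ≤ pCore p G
  hB : CaseB K r N
  FK : pCore p G ≤ K
  cd : ∀ χ, IsIrrCharacter G χ → charDegree χ = 1 ∨ charDegree χ = N.index ∨ charDegree χ = y ∨
    charDegree χ = z
  nz : ∀ β, IsIrrCharacter G β → pCore p G ≤ charKer β → charDegree β ≠ z

namespace Hi

variable {K N : Subgroup G} [K.Normal] [N.Normal] {r y z : ℕ} (h : Hi p K r N y z)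
include h

theorem FN : pCore p G ≤ N := h.FK.trans h.hB.lt.le

theorem NF : ¬ N ≤ pCore p G := fun e => h.hB.lt.not_ge (e.trans h.FK)

theorem p3 : IsPGroup p (derivedSeries G 3) := H1.isPGroup_pCore.to_le h.h3

theorem d3 : derivedSeries G 3 ≤ ⁅N, N⁆ := (ds_le 2).trans (ds2_le h.hB)

theorem d3N : derivedSeries G 3 ≤ N := h.h3.trans h.FN

theorem thG (h1 : p ∣ y) (h2 : p ∣ z) : ¬ p ∣ N.index := fun e =>
  h.NF (le_top.trans (thompsonG h.hO fun χ hχ h3 => by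
    rcases (h.cd χ hχ).resolve_left h3 with e' | e' | e' <;> rwa [e']).ge)

theorem mul {ψ : N → ℂ} (hψ : IsIrrCharacter N ψ) (h1 : charDegree ψ ≠ 1) (h2 : ¬ r ∣ charDegree ψ) :
    ¬ r ∣ N.index * charDegree ψ ∧
      (N.index * charDegree ψ = y ∨ N.index * charDegree ψ = z) := by
  obtain ⟨η, h3, h4⟩ := (h.hB.deg_or_dvd hψ).resolve_right h2
  have h0 := h.hB.one_lt
  refine ⟨h.hB.prime.not_dvd_mul h.hB.not_dvd h2, ?_⟩
  rcases h.cd η h3 with e | e | e <;> rw [h4] at e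
  · exact absurd (Nat.eq_one_of_mul_eq_one_left e) h1
  · exact absurd ((Nat.mul_eq_left (by omega)).1 e) h1
  · exact e

theorem of_dvd {χ : G → ℂ} (hχ : IsIrrCharacter G χ) (h1 : r ∣ charDegree χ) :
    charDegree χ = y ∨ charDegree χ = z := by
  rcases h.cd χ hχ with e | e | e
  exacts [absurd (e ▸ h1) h.hB.prime.not_dvd_one, absurd (e ▸ h1) h.hB.not_dvd, e]

theorem case1 (ry : r ∣ y) (hy : ∀ β, IsIrrCharacter G β → pCore p G ≤ charKer β →
    ¬ ⁅N, N⁆ ≤ charKer β → charDegree β = y) : False := by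
  have hB := h.hB
  have pF : IsPGroup p (pCore p G) := H1.isPGroup_pCore
  have key : ∀ (L : Subgroup G) [L.Normal] (θ : L → ℂ) (χ : G → ℂ), IsIrrCharacter L θ →
      pCore p G ≤ H7.inertia θ → IsIrrCharacter G χ → Over L χ θ → charDegree χ = y →
      derivedSeries G 2 ≤ H7.inertia θ := fun L _ θ χ hθ h1 hχ ho e =>
    le_of_index_dvd h1 fun β hβ k1 k2 => by
      rw [hy β hβ k1 fun e' => k2 ((ds2_le hB).trans e'), ← e]
      exact (Dvd.intro _ rfl).trans (ho.index_inertia_mul_dvd hχ hθ)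
  have hw : ∀ {w}, N.index * w = z → ∀ χ, IsIrrCharacter G χ → charDegree χ = 1 ∨
      charDegree χ = N.index ∨ r ∣ charDegree χ ∨ charDegree χ = N.index * w := fun e χ hχ =>
    (h.cd χ hχ).imp_right (Or.imp_right fun o => o.elim (fun e' => Or.inl (by rwa [e']))
      fun e' => Or.inr (e'.trans e.symm))
  have py : p ∣ y := by
    by_contra hn
    have h1 : ∀ χ, IsIrrCharacter G χ → ¬ derivedSeries G 3 ≤ charKer χ →
        charDegree χ = N.index ∨ charDegree χ = z := fun χ hχ k => by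
      rcases (h.cd χ hχ).resolve_left (ne_one_of_not_le hχ k) with e | e | e
      exacts [Or.inl e, absurd (e ▸ lemT h.h3 hχ k fun θ hθ ho => key _ θ χ hθ
        (H7.le_inertia (irr_isClassFunction hθ)) hχ ho e) hn, Or.inr e]
    obtain ⟨χ, hχ, k, e⟩ : ∃ χ, IsIrrCharacter G χ ∧ ¬ derivedSeries G 3 ≤ charKer χ ∧
        charDegree χ = N.index := by
      by_contra hc
      push Not at hc
      exact h.hV (comm_of_one h.p3 fun χ hχ k => (h1 χ hχ k).resolve_left (hc χ hχ k))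
    obtain ⟨ψ, hψ, ho⟩ := exists_under hχ N
    obtain ⟨h5, h6⟩ := h.mul hψ (ne_one_of_over h.d3 hχ hψ ho k)
      fun e' => hB.not_dvd (e ▸ e'.trans (ho.deg_dvd hχ hψ))
    replace h6 := h6.resolve_left fun e' => h5 (e' ▸ ry)
    refine h.hV (comm_of_one_sub h.p3 h.d3N (d := charDegree ψ) fun ψ' χ' hψ' hχ' ho' k' =>
      degw hB (hw h6) hψ' (ne_one_of_over h.d3 hχ' hψ' ho' k') fun e' => ?_)
    have := e'.trans (ho'.deg_dvd hχ' hψ')
    rcases h1 χ' hχ' k' with e'' | e''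
    exacts [hB.not_dvd (e'' ▸ this), h5 (h6 ▸ e'' ▸ this)]
  refine lemG h.hC N h.FN hB.le h.h3 h.h2 (fun L _ hL lam h1 h2 => ?_)
    (fun β hβ k1 k2 => hy β hβ k1 k2 ▸ py) fun β hβ k1 k2 => ?_
  swap
  · rcases h.cd β hβ with e | e | e | e
    exacts [Or.inl e, Or.inr e, absurd (ry.trans (e ▸ deg_dvd_of_ker hβ k2)) hB.not_dvd,
      absurd e (h.nz β hβ k1)]
  have hl := isIrrCharacter_hom lam
  by_cases hall : ∀ ψ, IsIrrCharacter N ψ → charDegree ψ ≠ 1 → r ∣ charDegree ψ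
  · have pz : ¬ p ∣ z := fun e => h.NF (thompsonN h.hO fun ψ χ hψ hχ ho h3 =>
      Or.inr ⟨(h.of_dvd hχ ((hall ψ hψ h3).trans (ho.deg_dvd hχ hψ))).elim (· ▸ py) (· ▸ e),
        h.thG py e⟩)
    obtain ⟨h3, h4⟩ := stab (pF.to_le hL) lam pz fun χ hχ ho => by
      obtain ⟨ψ, hψ, ho'⟩ := exists_under hχ N
      exact (h.of_dvd hχ ((hall ψ hψ (ne_one_of_over (ds2_le hB) hχ hψ ho' fun e =>
        h2 (le_inertia_of_ker hχ ho e))).trans (ho'.deg_dvd hχ hψ))).resolve_left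
        fun e => h2 (key L _ χ hl h1 hχ ho e)
    exact ⟨_, h3, fun a _ ha b hb => h4 a ha b hb⟩
  push Not at hall
  obtain ⟨ψ, hψ, w1, rw'⟩ := hall
  obtain ⟨h5, h6⟩ := h.mul hψ w1 rw'
  replace h6 := h6.resolve_left fun e' => h5 (e' ▸ ry)
  have ey : ∀ χ, IsIrrCharacter G χ → r ∣ charDegree χ → charDegree χ = y := fun χ hχ e =>
    (h.of_dvd hχ e).resolve_right fun e' => h5 (h6 ▸ e' ▸ e)
  have pf : ¬ p ∣ N.index := fun e => h.thG py (h6 ▸ e.mul_right _) e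
  have pw : ¬ p ∣ charDegree ψ := fun e => h.NF (thompsonN h.hO fun ψ' χ hψ' hχ ho h3 => by
    by_cases e' : r ∣ charDegree ψ'
    · exact Or.inr ⟨ey χ hχ (e'.trans (ho.deg_dvd hχ hψ')) ▸ py, pf⟩
    · exact Or.inl (degw hB (hw h6) hψ' h3 e' ▸ e))
  have hLN := hL.trans h.FN
  obtain ⟨h3, h4⟩ := stab (L := L.subgroupOf N) (pF.to_le hL).comap_subtype
    (lam.comp (subgroupOfEquivOfLe hLN).toMonoidHom) pw fun ψ' hψ' ho => by
      obtain ⟨χ, hχ, ho'⟩ := exists_over hψ'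
      have h7 := ho'.trans hLN ((over_sub hLN (θ := fun n => (lam n : ℂ))).1 ho)
        (irr_isCharacter hχ) hψ' (irr_isCharacter hl)
      exact degw hB (hw h6) hψ' (ne_one_of_over (ds2_le hB) hχ hψ' ho' fun e =>
        h2 (le_inertia_of_ker hχ h7 e)) fun e =>
          h2 (key L _ χ hl h1 hχ h7 (ey χ hχ (e.trans (ho'.deg_dvd hχ hψ'))))
  refine ⟨Subgroup.map N.subtype _, by
    rw [index_map_subtype]; exact hp.out.not_dvd_mul h3 pf, ?_⟩
  rintro a ha h7 _ ⟨b, hb, rfl⟩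
  exact h4 ⟨a, hB.le ha⟩ ((inertia_sub hLN fun n => (lam n : ℂ)).ge h7) b hb

theorem case2 (ry : ¬ r ∣ y) (rz : r ∣ z) : False := by
  have hB := h.hB
  have h0 := hB.one_lt
  have pF : IsPGroup p (pCore p G) := H1.isPGroup_pCore
  have nr : ∀ {ψ χ}, IsIrrCharacter N ψ → IsIrrCharacter G χ → Over N χ ψ → charDegree χ ≠ z →
      ¬ r ∣ charDegree ψ := fun hψ hχ ho e e' =>
    ry (((h.of_dvd hχ (e'.trans (ho.deg_dvd hχ hψ))).resolve_right e) ▸ e'.trans (ho.deg_dvd hχ hψ))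
  obtain ⟨g, hg, gF⟩ := SetLike.not_le_iff_exists.1 h.h2
  obtain ⟨β, hβ, kβ, gβ⟩ := exists_irr_ker_of_not_mem _ gF
  obtain ⟨ψ, hψ, ho⟩ := exists_under hβ N
  have w1 := ne_one_of_over (ds2_le hB) hβ hψ ho fun e => gβ (e hg)
  obtain ⟨h5, h6⟩ := h.mul hψ w1 (nr hψ hβ ho (h.nz β hβ kβ))
  replace h6 := h6.resolve_right fun e' => h5 (e' ▸ rz)
  have hw : ∀ {ψ' χ}, IsIrrCharacter N ψ' → IsIrrCharacter G χ → Over N χ ψ' → charDegree χ ≠ z →
      charDegree ψ' ≠ 1 → charDegree ψ' = charDegree ψ := fun hψ' hχ ho e e' =>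
    degw hB (fun χ hχ => (h.cd χ hχ).imp_right (Or.imp_right fun e => e.elim
      (fun e => Or.inr (e.trans h6.symm)) fun e => Or.inl (e ▸ rz))) hψ' e' (nr hψ' hχ ho e)
  have key : ∀ (L : Subgroup G) [L.Normal] (θ : L → ℂ) (χ : G → ℂ), L ≤ pCore p G →
      IsIrrCharacter L θ → pCore p G ≤ H7.inertia θ → IsIrrCharacter G χ → Over L χ θ →
      charDegree χ ≠ z → derivedSeries G 2 ≤ H7.inertia θ := fun L _ θ χ hL hθ h1 hχ ho e => by
    have hLN := hL.trans h.FN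
    obtain ⟨μ, hμ, o1, o2⟩ := mid hLN hχ ho
    have h2 := (Dvd.intro _ rfl).trans (o2.index_inertia_mul_dvd hμ
      (isIrrCharacter_comp_equiv (subgroupOfEquivOfLe hLN) hθ))
    rw [inertia_sub hLN] at h2
    have := le_of_index_dvd (X := (derivedSeries G 2).subgroupOf N) (comap_mono h1 :
      (pCore p G).subgroupOf N ≤ (H7.inertia θ).subgroupOf N) fun ν hν k1 k2 => by
        obtain ⟨η, hη, o3⟩ := exists_over hν
        rw [hw hν hη o3 (h.nz η hη (ker_sub h.FN hη hν o3 k1)) fun e' => k2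
          ((sub_comm (ds2_le hB)).trans (commutator_le_charKer_of_deg_one (irr_isCharacter hν) e'))]
        by_cases e' : charDegree μ = 1
        · exact (e' ▸ h2).trans (one_dvd _)
        · exact hw hμ hχ o1 e e' ▸ h2
    exact fun x hx => this (x := ⟨x, hB.le (ds_le 1 hx)⟩) hx
  by_cases pz : p ∣ z
  · have pf : ¬ p ∣ N.index := fun e => h.thG (h6 ▸ e.mul_right _) pz e
    have pw : ¬ p ∣ charDegree ψ := fun e => h.NF (thompsonN h.hO fun ψ' χ hψ' hχ ho h3 => by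
      by_cases e' : charDegree χ = z
      · exact Or.inr ⟨e' ▸ pz, pf⟩
      · exact Or.inl (hw hψ' hχ ho e' h3 ▸ e))
    refine h.hV (comm_of_one h.p3 (d := z) fun χ hχ k => not_not.1 fun e => ?_)
    have := lemT h.h3 hχ k fun θ hθ ho => key _ θ χ le_rfl hθ
      (H7.le_inertia (irr_isClassFunction hθ)) hχ ho e
    rcases h.cd χ hχ with e' | e' | e' | e'
    exacts [hp.out.not_dvd_one (e' ▸ this), pf (e' ▸ this),
      hp.out.not_dvd_mul pf pw (h6 ▸ e' ▸ this), e e']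
  have pw : p ∣ charDegree ψ := by
    obtain ⟨c, hc, kc⟩ := exists_irr_not_le_charKer h.hV
    obtain ⟨μ, hμ, o⟩ := exists_under hc N
    rw [← hw hμ hc o (fun e => pz (e ▸ dvd_of_not_le h.p3 hc kc))
      (ne_one_of_over ((ds_le 3).trans h.d3) hc hμ o kc)]
    exact dvd_of_not_le (X := (derivedSeries G 3).subgroupOf N) h.p3.comap_subtype hμ fun e =>
      kc (ker_sub ((ds_le 3).trans h.d3N) hc hμ o (comm_sub h.d3N ▸ e))
  refine lemG h.hC N h.FN hB.le h.h3 h.h2 (fun L _ hL lam h1 h2 => ?_) (fun β hβ k1 k2 => ?_)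
    fun β hβ k1 k2 => ?_
  · obtain ⟨h3, h4⟩ := stab (pF.to_le hL) lam pz fun χ hχ ho => not_not.1 fun e =>
      h2 (key L _ χ hL (isIrrCharacter_hom lam) h1 hχ ho e)
    exact ⟨_, h3, fun a _ ha b hb => h4 a ha b hb⟩
  · obtain ⟨μ, hμ, o⟩ := exists_under hβ N
    exact (hw hμ hβ o (h.nz β hβ k1) (ne_one_of_over le_rfl hβ hμ o k2) ▸ pw).trans (o.deg_dvd hβ hμ)
  · rcases h.cd β hβ with e | e | e | e
    exacts [Or.inl e, Or.inr e, absurd (Nat.eq_one_of_dvd_one (Nat.dvd_of_mul_dvd_mul_left (Nat.zero_lt_of_lt h0)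
      (by rw [mul_one, h6, ← e]; exact deg_dvd_of_ker hβ k2))) w1, absurd e (h.nz β hβ k1)]

end Hi

theorem highB [Group.IsSolvable G] (h4 : (charDegrees G).ncard ≤ 4) (hV : derivedSeries G 4 ≠ ⊥)
    (hO : pPrimeCore p G = ⊥) (h2 : ¬ derivedSeries G 2 ≤ pCore p G) {K N : Subgroup G} [K.Normal]
    {r : ℕ} (hB : CaseB K r N) (hF : pCore p G ≤ K)
    (hH : ∀ β, IsIrrCharacter G β → pCore p G ≤ charKer β → ¬ ⁅N, N⁆ ≤ charKer β →
      r ∣ charDegree β ∨ ∃ η, IsIrrCharacter G η ∧ pCore p G ≤ charKer η ∧ ∃ w, w ≠ 1 ∧ ¬ r ∣ w ∧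
        charDegree η = N.index * w) : False := by
  have := hB.normal
  have h0 := hB.one_lt
  obtain ⟨τ, hτ, kτ, eτ⟩ := hB.deg
  obtain ⟨ζ, hζ, -, nz⟩ := top hO fun e => h2 (e ▸ le_top)
  obtain ⟨β, hβ, kβ, β1, βf⟩ := third h2 N.index
  have h : Hi p K r N (charDegree β) (charDegree ζ) := ⟨hV, hO,
    H1.centralizer_pCore_le_of_isSolvable hO, three h4 hO, h2, hB, hF, fun χ hχ => eτ ▸ cd4 h4
      (mem_charDegrees hτ) (mem_charDegrees hβ) (mem_charDegrees hζ) (by omega) β1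
      (fun e => nz _ isIrrCharacter_one (le_top.trans
        ((charKer_eq_top_iff (G := G) isIrrCharacter_one).2 rfl).ge) (deg_one.trans e.symm))
      (eτ ▸ βf.symm) (nz τ hτ (hF.trans kτ)) (nz β hβ kβ) hχ, nz⟩
  by_cases ry : r ∣ charDegree β
  · refine h.case1 ry fun γ hγ k1 k2 => ?_
    rcases hH γ hγ k1 k2 with e | ⟨η, hη, k, w, w1, rw', e⟩
    · exact (h.of_dvd hγ e).resolve_right (nz γ hγ k1)
    rcases h.cd η hη with e' | e' | e' | e'
    · exact absurd (Nat.eq_one_of_mul_eq_one_left (e.symm.trans e')) w1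
    · exact absurd ((Nat.mul_eq_left (by omega)).1 (e.symm.trans e')) w1
    · exact absurd (e ▸ e' ▸ ry) (hB.prime.not_dvd_mul hB.not_dvd rw')
    · exact absurd e' (nz η hη k)
  · obtain ⟨μ, hμ, rμ⟩ := exU h4 hV hB
    exact h.case2 ry (((h.of_dvd hμ rμ).resolve_left fun e => ry (e ▸ rμ)) ▸ rμ)

universe u

theorem four_aux (n : ℕ) : ∀ (G : Type u) [Group G] [Finite G] [Group.IsSolvable G],
    Nat.card G = n → (charDegrees G).ncard ≤ 4 → derivedSeries G 4 = ⊥ := by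
  induction n using Nat.strong_induction_on with
  | _ n ih =>
  intro G _ _ _ hn h4
  by_contra hV
  obtain ⟨p, hp, hd⟩ := Nat.exists_prime_and_dvd (n := Nat.card (derivedSeries G 4))
    fun e => hV (card_eq_one.1 e)
  have := Fact.mk hp
  have hO : pPrimeCore p G = ⊥ := not_not.1 fun e => H1.not_dvd_card_pPrimeCore
    (hd.trans (card_dvd_of_le (derivedSeries_le_of_quotient (ih _ (by
      rw [← hn, ← index_eq_card, ← (pPrimeCore p G).index_mul_card]
      exact lt_mul_of_one_lt_right (Nat.pos_of_ne_zero index_ne_zero_of_finite)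
        ((one_lt_card_iff_ne_bot _).2 e)) (G ⧸ pPrimeCore p G) rfl
      ((Set.ncard_le_ncard (charDegrees_quotient_subset _) finite_charDegrees).trans h4)))))
  by_cases h2 : derivedSeries G 2 ≤ pCore p G
  · rcases struct (pCore p G) (low h4 hV h2).1 with ⟨K, r, Z, τ, hK, hA, -⟩ | ⟨K, r, N, hK, hB, -⟩
    exacts [lowA h4 hV h2 hA, lowB h4 hV hO h2 hB]
  · rcases struct (pCore p G) fun e => h2 ((ds_le 1).trans e) with
      ⟨K, r, Z, τ, hK, hA, -, h⟩ | ⟨K, r, N, hK, hB, h1, h⟩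
    exacts [highA h4 hV hO h2 hA h, highB h4 hV hO h2 hB h1 h]

end H64.Garr
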